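import Mathlib
import Cfsg.Agent.Lib.Lead.CITM3
import Cfsg.Agent.Lib.H1.Coprime

/-!
Team T-CIT: subgroups and quotients of `Sep` groups.
-/

set_option autoImplicit false

namespace H28.CITSep

open Subgroup H28.Cj H28.RelSyl Lead.CIT

theorem sep_subgroup {G : Type*} [Group G] (hS : Sep G) (N : Subgroup G) : Sep N := by
  intro x t ht hx hxt
  apply Subtype.ext
  apply hS (x : G) (t : G)
  · rw [Subgroup.orderOf_coe, ht]
  · rw [Subgroup.orderOf_coe]; exact hx
  · exact congrArg Subtype.val hxt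

theorem sep_quotient {G : Type*} [Group G] [Finite G] (hS : Sep G) (D : Subgroup G) [hn : D.Normal]
    (hD : IsPGroup 2 D) : Sep (G ⧸ D) := by
  have h2p : Fact (Nat.Prime 2) := ⟨Nat.prime_two⟩
  intro X T hT hX hXT
  obtain ⟨x₀, rfl⟩ := QuotientGroup.mk'_surjective D X
  obtain ⟨t, rfl⟩ := QuotientGroup.mk'_surjective D T
  set π := QuotientGroup.mk' D with hπ
  -- an odd order lift
  obtain ⟨k, m, hm, hkm⟩ := Nat.exists_eq_two_pow_mul_odd (orderOf_pos x₀).ne'
  have hdvd : orderOf (π x₀) ∣ m := by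
    have h1 : orderOf (π x₀) ∣ 2 ^ k * m := by rw [← hkm]; exact orderOf_map_dvd π x₀
    exact (Nat.Coprime.pow_right k (Nat.coprime_two_right.mpr hX)).dvd_of_dvd_mul_left h1
  obtain ⟨x, hxo, hxπ⟩ : ∃ x : G, Odd (orderOf x) ∧ π x = π x₀ := by
    obtain ⟨u, hu⟩ : ∃ u : ℕ, 2 ^ k * u ≡ 1 [MOD m] := by
      have hc : Nat.Coprime (2 ^ k) m := Nat.Coprime.pow_left k (Nat.coprime_two_left.mpr hm)
      refine ⟨(2 ^ k) ^ (Nat.totient m - 1), ?_⟩
      have h0 : 0 < Nat.totient m := Nat.totient_pos.mpr hm.pos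
      have h1 : 2 ^ k * (2 ^ k) ^ (Nat.totient m - 1) = (2 ^ k) ^ Nat.totient m := by
        rw [← pow_succ', Nat.sub_add_cancel h0]
      rw [h1]
      exact Nat.ModEq.pow_totient hc
    refine ⟨x₀ ^ (2 ^ k * u), ?_, ?_⟩
    · have h1 : orderOf (x₀ ^ (2 ^ k * u)) ∣ m := by
        rw [orderOf_dvd_iff_pow_eq_one, ← pow_mul]
        have : 2 ^ k * u * m = (2 ^ k * m) * u := by ring
        rw [this, ← hkm, pow_mul, pow_orderOf_eq_one, one_pow]
      exact hm.of_dvd_nat h1
    · rw [map_pow]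
      have h1 : (π x₀) ^ (2 ^ k * u) = (π x₀) ^ 1 := by
        rw [pow_eq_pow_iff_modEq]
        exact hu.of_dvd hdvd
      rw [h1, pow_one]
  rw [← hxπ] at hXT ⊢
  -- `x` acts on the coset `t D`
  have htD : t ∉ D := by
    intro h1
    have h2 : π t = 1 := (QuotientGroup.eq_one_iff t).mpr h1
    rw [h2, orderOf_one] at hT
    omega
  have ht2 : t * t ∈ D := by
    have h1 : π (t * t) = 1 := by
      rw [map_mul, ← pow_two, ← hT, pow_orderOf_eq_one]
    exact (QuotientGroup.eq_one_iff _).mp h1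
  have hxt : x * t * x⁻¹ * t⁻¹ ∈ D := by
    rw [← QuotientGroup.eq_one_iff]
    change π _ = 1
    rw [map_mul, map_mul, map_mul, map_inv, map_inv, hXT]
    group
  -- the 2-group `K = D ⟨t⟩`
  set K : Subgroup G := D ⊔ zpowers t with hK
  have hDK : D ≤ K := le_sup_left
  have htK : t ∈ K := mem_sup_right (mem_zpowers t)
  have hKp : IsPGroup 2 K := by
    have h1 : IsPGroup 2 (zpowers (π t)) :=
      IsPGroup.of_card (n := 1) (by rw [Nat.card_zpowers, hT, pow_one])
    have h2 : K ≤ (zpowers (π t)).comap π := by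
      refine sup_le ?_ ?_
      · intro d hd
        rw [mem_comap]
        have : π d = 1 := (QuotientGroup.eq_one_iff d).mpr hd
        rw [this]; exact one_mem _
      · rw [zpowers_le, mem_comap]
        exact mem_zpowers _
    have h3 : IsPGroup 2 ((zpowers (π t)).comap π) := by
      apply h1.comap_of_ker_isPGroup
      rw [hπ, QuotientGroup.ker_mk']
      exact hD
    exact h3.to_le h2
  set A : Subgroup G := zpowers x with hA
  have hAD : A ≤ normalizer (D : Set G) := by rw [normalizer_eq_top_iff.mpr hn]; exact le_top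
  have hcomm : ∀ a ∈ A, a * t * a⁻¹ * t⁻¹ ∈ D := by
    intro a ha
    obtain ⟨j, rfl⟩ := mem_zpowers_iff.mp ha
    rw [← QuotientGroup.eq_one_iff]
    change π _ = 1
    have h1 : π x * π t = π t * π x := hXT
    have h2 : Commute (π x) (π t) := h1
    rw [map_mul, map_mul, map_mul, map_inv, map_inv, map_zpow, (h2.zpow_left j).eq]
    group
  have hAK : A ≤ normalizer (K : Set G) := by
    rw [hA, zpowers_le]
    apply H28.Cj.mem_normalizer_of_cj_le
    rw [hK, cj_sup]
    refine sup_le ?_ ?_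
    · rw [mem_normalizer_iff_cj.mp (hAD (mem_zpowers x))]
      exact hDK
    · rw [cj_le_iff, zpowers_le, mem_cj, inv_inv]
      have : x * t * x⁻¹ = (x * t * x⁻¹ * t⁻¹) * t := by group
      rw [this]
      exact K.mul_mem (hDK hxt) htK
  have hcop : (Nat.card A).Coprime (Nat.card K) := by
    obtain ⟨n, hn'⟩ := hKp.exists_card_eq
    rw [hn', hA, Nat.card_zpowers]
    exact Nat.Coprime.pow_right n (Nat.coprime_two_right.mpr hxo)
  have hsol : Group.IsSolvable A ∨ Group.IsSolvable K := by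
    left
    infer_instance
  obtain ⟨c, hc, hcN⟩ := H1.Coprime.exists_fixed_of_coset_fixed A K hAK hcop hsol D hDK
    (by rw [normalizer_eq_top_iff.mpr hn]; exact le_top) hAD t htK hcomm
  -- `c ∈ t D`, commutes with `x`
  have hc1 : c ≠ 1 := by
    rintro rfl
    rw [mul_one] at hcN
    exact htD (by simpa using D.inv_mem hcN)
  have hxc : x * c = c * x := mem_centralizer_iff.mp hc.2 x (mem_zpowers x)
  have hx1 : x = 1 := by
    apply Lead.CIT3.sep_eq_one hS (Q := zpowers c) (hKp.to_le (by rw [zpowers_le]; exact hc.1))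
      (by rw [Ne, zpowers_eq_bot]; exact hc1) hxo
    intro y hy
    obtain ⟨j, rfl⟩ := mem_zpowers_iff.mp hy
    exact ((show Commute x c from hxc).zpow_right j).eq
  rw [hx1, map_one]

end H28.CITSep
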