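import Mathlib
import Cfsg.Agent.Lib.H28.RelSyl
import Cfsg.Agent.Lib.H73.TransferP

/-!
Team T-CIT, M7: a transfer argument: an element of minimal order outside a subgroup of index two of a
Sylow `2`-subgroup is fused into it.
-/

set_option autoImplicit false

namespace H28.CITTr

open Subgroup H28.Cj H28.RelSyl

variable {G : Type*} [Group G] [Finite G]

theorem exists_fused [IsSimpleGroup G] (hna : ∃ a b : G, a * b ≠ b * a) {S T : Subgroup G}
    (hS : IsSyl 2 S ⊤)
    (hidx : ∀ a ∈ S, ∀ b ∈ S, a ∉ T → b ∉ T → a * b ∈ T) {x : G} (hxS : x ∈ S) (hxT : x ∉ T)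
    (hmin : ∀ y ∈ S, y ∉ T → orderOf x ≤ orderOf y) : ∃ g : G, g * x * g⁻¹ ∈ T := by
  classical
  have h2p : Fact (Nat.Prime 2) := ⟨Nat.prime_two⟩
  by_contra hcon
  push Not at hcon
  have hmulT : ∀ a ∈ T, ∀ b ∈ S, b ∉ T → a * b ∉ T := by
    intro a ha b _ hbT h1
    apply hbT
    have : b = a⁻¹ * (a * b) := by group
    rw [this]; exact T.mul_mem (T.inv_mem ha) h1
  have hmulT' : ∀ a ∈ S, a ∉ T → ∀ b ∈ T, a * b ∉ T := by
    intro a _ haT b hb h1
    apply haT
    have : a = (a * b) * b⁻¹ := by group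
    rw [this]; exact T.mul_mem h1 (T.inv_mem hb)
  let f : S →* ℤˣ :=
    { toFun := fun s => if (s : G) ∈ T then 1 else -1
      map_one' := by
        rw [if_pos]; exact T.one_mem
      map_mul' := by
        intro a b
        change (if (a : G) * b ∈ T then (1 : ℤˣ) else -1) =
          (if (a : G) ∈ T then 1 else -1) * (if (b : G) ∈ T then 1 else -1)
        by_cases ha : (a : G) ∈ T <;> by_cases hb : (b : G) ∈ T
        · rw [if_pos ha, if_pos hb, if_pos (T.mul_mem ha hb), one_mul]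
        · rw [if_pos ha, if_neg hb, if_neg (hmulT a ha b b.2 hb), one_mul]
        · rw [if_neg ha, if_pos hb, if_neg (hmulT' a a.2 ha b hb), mul_one]
        · rw [if_neg ha, if_neg hb, if_pos (hidx a a.2 b b.2 ha hb)]; simp }
  have hf1 : ∀ s : S, (s : G) ∈ T → f s = 1 := fun s hs => if_pos hs
  have hf2 : ∀ s : S, (s : G) ∉ T → f s = -1 := fun s hs => if_neg hs
  have hx1 : x ≠ 1 := fun h => hxT (h ▸ T.one_mem)
  have hconj : ∀ (g : G) (h : g⁻¹ * x * g ∈ S), f ⟨_, h⟩ = -1 := by
    intro g h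
    apply hf2
    have := hcon g⁻¹
    rwa [inv_inv] at this
  have hev : 2 ∣ orderOf x := by
    obtain ⟨k, hk⟩ := hS.isPGroup ⟨x, hxS⟩
    have hk' : x ^ 2 ^ k = 1 := congrArg Subtype.val hk
    obtain ⟨j, -, hj⟩ := (Nat.dvd_prime_pow Nat.prime_two).mp (orderOf_dvd_of_pow_eq_one hk')
    rcases Nat.eq_zero_or_pos j with h0 | h0
    · rw [h0, pow_zero] at hj
      exact absurd (orderOf_eq_one_iff.mp hj) hx1
    · rw [hj]; exact dvd_pow_self 2 h0.ne'
  have key := H73.TransferP.transfer_eq_pow S hS.isPGroup f x hxS ?_ ?_ ?_ ?_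
  · have hodd : Odd (Nat.card (MulAction.fixedPoints S (G ⧸ S))) := by
      have h1 := hS.isPGroup.card_modEq_card_fixedPoints (G ⧸ S)
      have h2 : ¬ 2 ∣ Nat.card (G ⧸ S) := by
        have h3 := hS.not_dvd
        rw [relIndex_top_right] at h3
        exact h3
      rw [← Nat.not_even_iff_odd, even_iff_two_dvd]
      intro h3
      exact h2 ((h1.dvd_iff (dvd_refl 2)).mpr h3)
    rw [hf2 ⟨x, hxS⟩ hxT, hodd.neg_one_pow] at key
    have hker : f.transfer.ker.Normal := inferInstance
    rcases hker.eq_bot_or_eq_top with h1 | h1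
    · obtain ⟨a, b, hab⟩ := hna
      apply hab
      have hinj := (MonoidHom.ker_eq_bot_iff _).mp h1
      apply hinj
      rw [map_mul, map_mul, mul_comm]
    · have h2 : x ∈ f.transfer.ker := by rw [h1]; exact mem_top x
      rw [MonoidHom.mem_ker, key] at h2
      exact absurd h2 (by decide)
  · intro g k h hk
    apply hf1
    by_contra hcT
    have h1 := hmin _ h hcT
    have h2 : orderOf (g⁻¹ * x ^ k * g) = orderOf (x ^ k) := by
      have := MulEquiv.orderOf_eq (MulAut.conj g⁻¹) (x ^ k)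
      rw [← this]
      simp
    change orderOf x ≤ orderOf (g⁻¹ * x ^ k * g) at h1
    rw [h2] at h1
    have h3 : orderOf (x ^ k) ∣ orderOf x / 2 := by
      rw [orderOf_dvd_iff_pow_eq_one, ← pow_mul]
      obtain ⟨j, rfl⟩ := hk
      have : 2 * j * (orderOf x / 2) = orderOf x * j := by
        obtain ⟨o, ho⟩ := hev
        rw [ho, Nat.mul_div_cancel_left _ (by norm_num : 0 < 2)]; ring
      rw [this, pow_mul, pow_orderOf_eq_one, one_pow]
    have h4 : 0 < orderOf x / 2 :=
      Nat.div_pos (Nat.le_of_dvd (orderOf_pos x) hev) (by norm_num)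
    have h5 := Nat.le_of_dvd h4 h3
    have h6 := orderOf_pos x
    omega
  · intro g t h ht h'
    rw [hconj g h, hconj (t * g) h']
  · intro g _ h
    rw [hconj g h, hf2 ⟨x, hxS⟩ hxT]
  · intro g h
    rw [hconj g h]; decide

end H28.CITTr
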