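import Mathlib
import Cfsg.Agent.Lib.H55.CITM2
import Cfsg.Agent.Lib.Lead.CITM3
import Cfsg.Agent.Lib.H28.CITSep
import Cfsg.Agent.Lib.H28.CITTr
import Cfsg.Agent.Lib.H65.PBasic
import Cfsg.Agent.Lib.H91.LargePair2
import Cfsg.Agent.Lib.H28.Sup

/-!
Team T-CIT, M7: exclusion of the swap for `q ≥ 4`.
-/

set_option autoImplicit false
set_option linter.unusedSectionVars false

namespace H28.CITM7

open Subgroup H28.Cj H28.RelSyl Lead.CIT H55.CITM2

universe u

variable {G : Type u} [Group G]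

theorem IsEA_cj {E : Subgroup G} (h : IsEA E) (g : G) : IsEA (cj g E) := by
  rintro _ ⟨x, hx, rfl⟩
  change (MulAut.conj g x) * (MulAut.conj g x) = 1
  rw [← map_mul, h x hx, map_one]

variable [Finite G] {q : ℕ} {V V' T S : Subgroup G}

/-- Sylow `2`-subgroups of `N(V)` intersect in `V` -/
theorem ti_mod (hS : Sep G) (h : Nat2 q V) (cV : centralizer (V : Set G) = V) {P P' : Subgroup G}
    (hP : IsSyl 2 P (normalizer (V : Set G))) (hP' : IsSyl 2 P' (normalizer (V : Set G)))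
    (hne : P ≠ P') : P ⊓ P' ≤ V := by
  have h2p : Fact (Nat.Prime 2) := ⟨Nat.prime_two⟩
  intro x hx
  by_contra hxV
  rw [← cV] at hxV
  have h1 : OZ P ≠ ⊥ := by
    intro h1
    have := card_OZ h hP
    rw [h1, Subgroup.card_bot] at this
    exact h.q1.ne this
  obtain ⟨v, hv, hv1⟩ := (bot_or_exists_ne_one _).resolve_left h1
  have hvV : v ∈ V := h.oz P hP hv
  have h2 : v ∈ centralizer (P' : Set G) :=
    h.fix P' hP' x hx.2 hxV v hvV (hv.2.2 x hx.1).symm
  have h3 : v ∈ centralizer (P : Set G) := by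
    rw [mem_centralizer_iff]
    intro y hy
    exact (hv.2.2 y hy).symm
  have h4 : normalizer (V : Set G) ≤ centralizer ({v} : Set G) := by
    rw [← h.gen P P' hP hP' hne]
    refine sup_le ?_ ?_
    · intro y hy
      rw [mem_centralizer_singleton_iff]
      exact mem_centralizer_iff.mp h3 y hy
    · intro y hy
      rw [mem_centralizer_singleton_iff]
      exact mem_centralizer_iff.mp h2 y hy
  have h5 : IsPGroup 2 (normalizer (V : Set G)) :=
    (Lead.CIT3.sep_centralizer hS (h.ea.orderOf hvV hv1)).to_le h4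
  apply hne
  rw [← hP.eq_of_le h5 hP.le le_rfl, ← hP'.eq_of_le h5 hP'.le le_rfl]

/-- the configuration -/
structure Cf (q : ℕ) (V V' T : Subgroup G) : Prop where
  hS : Sep G
  q2 : 2 < q
  h : Nat2 q V
  h' : Nat2 q V'
  sT : IsSyl 2 T (normalizer (V : Set G))
  sT' : IsSyl 2 T (normalizer (V' : Set G))
  cV : centralizer (V : Set G) = V
  cV' : centralizer (V' : Set G) = V'
  sup : T = V ⊔ V'
  inf : V ⊓ V' = OZ T
  card : Nat.card T = q ^ 3
  inv : ∀ x ∈ T, x * x = 1 → x ∈ V ∨ x ∈ V'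

section

variable (c : Cf q V V' T)

include c

theorem Cf.symm : Cf q V' V T :=
  ⟨c.hS, c.q2, c.h', c.h, c.sT', c.sT, c.cV', c.cV, by rw [sup_comm]; exact c.sup,
    by rw [inf_comm]; exact c.inf, c.card, fun x hx h1 => (c.inv x hx h1).symm⟩

theorem Cf.VT : V ≤ T := by rw [c.sup]; exact le_sup_left

theorem Cf.ne : V ≠ V' := by
  intro h1
  have h2 := c.card
  rw [c.sup, ← h1, sup_idem, c.h.card] at h2
  have h3 : q ^ 2 < q ^ 3 := Nat.pow_lt_pow_right (by have := c.q2; omega) (by norm_num)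
  omega

theorem Cf.ea_le {E : Subgroup G} (hE : E ≤ T) (hea : IsEA E) : E ≤ V ∨ E ≤ V' := by
  by_contra hcon
  push Not at hcon
  obtain ⟨⟨a, ha, haV⟩, ⟨b, hb, hbV⟩⟩ :=
    And.intro (SetLike.not_le_iff_exists.mp hcon.1) (SetLike.not_le_iff_exists.mp hcon.2)
  have ha' := (c.inv a (hE ha) (hea a ha)).resolve_left haV
  have hb' := (c.inv b (hE hb) (hea b hb)).resolve_right hbV
  have hab := E.mul_mem ha hb
  rcases c.inv _ (hE hab) (hea _ hab) with h1 | h1
  · apply haV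
    have : a = (a * b) * b⁻¹ := by group
    rw [this]; exact V.mul_mem h1 (V.inv_mem hb')
  · apply hbV
    have : b = a⁻¹ * (a * b) := by group
    rw [this]; exact V'.mul_mem (V'.inv_mem ha') h1

theorem Cf.ea_eq {E : Subgroup G} (hE : E ≤ T) (hea : IsEA E) (hc : q ^ 2 ≤ Nat.card E) :
    E = V ∨ E = V' := by
  rcases c.ea_le hE hea with h1 | h1
  · left
    exact Subgroup.eq_of_le_of_card_ge h1 (by rw [c.h.card]; exact hc)
  · right
    exact Subgroup.eq_of_le_of_card_ge h1 (by rw [c.h'.card]; exact hc)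

theorem Cf.move {y : G} (hy : y ∈ normalizer (T : Set G)) : cj y V = V ∨ cj y V = V' := by
  apply c.ea_eq
  · have h1 := (cj_le_cj (g := y)).mpr c.VT
    rwa [mem_normalizer_iff_cj.mp hy] at h1
  · exact IsEA_cj c.h.ea y
  · rw [card_cj, c.h.card]

theorem Cf.card_OZ : Nat.card (OZ T) = q := H55.CITM2.card_OZ c.h c.sT

theorem Cf.OZ_ne : OZ T ≠ ⊥ := by
  intro h1
  have := c.card_OZ
  rw [h1, Subgroup.card_bot] at this
  have := c.q2
  omega

/-- squares in `T` are in `Z` -/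
theorem Cf.sq_mem {t : G} (ht : t ∈ T) : t * t ∈ OZ T := by
  have hTV : T ≤ normalizer (V : Set G) := c.sT.le
  have ht' := ht
  rw [c.sup] at ht'
  have hV'V : V' ≤ normalizer (V : Set G) := c.symm.VT.trans hTV
  obtain ⟨v, hv, v', hv', rfl⟩ := (H28.Sup.mem_sup_iff hV'V).mp ht'
  have hv'T := c.symm.VT hv'
  have h1 : v * v' * (v * v') = v * v' * v⁻¹ * v'⁻¹ := by
    rw [c.h.ea.inv_eq hv, c.h'.ea.inv_eq hv']; group
  rw [h1]
  have h2 := c.h.comm T c.sT v' hv'T v hv
  have h3 : v * v' * v⁻¹ * v'⁻¹ ∈ V := by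
    have : v * v' * v⁻¹ * v'⁻¹ = v * (v' * v⁻¹ * v'⁻¹) := by group
    rw [this]
    exact V.mul_mem hv (conj_mem_of_le_normalizer hV'V hv' (V.inv_mem hv))
  refine ⟨c.VT h3, c.h.ea _ h3, fun y hy => ?_⟩
  exact (mem_centralizer_iff.mp h2 y hy).symm

end

section

variable (c : Cf q V V' T) (hST : IsSyl 2 S ⊤)

include c hST

omit c in
theorem isPGroup_sup {y : G} (hT : T ≤ S) (hy : y ∈ S) : IsPGroup 2 (T ⊔ zpowers y : Subgroup G) :=
  hST.isPGroup.to_le (sup_le hT (by rw [zpowers_le]; exact hy))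

theorem Cf.swap (hTS : T ≤ S) {y : G} (hyS : y ∈ S) (hy : y ∈ normalizer (T : Set G)) (hyT : y ∉ T) :
    cj y V = V' := by
  have h2p : Fact (Nat.Prime 2) := ⟨Nat.prime_two⟩
  refine (c.move hy).resolve_left fun h1 => hyT ?_
  have h2 := c.sT.eq_of_le (isPGroup_sup hST hTS hyS) le_sup_left (sup_le c.sT.le (by
    rw [zpowers_le]; exact mem_normalizer_iff_cj.mpr h1))
  rw [← h2]
  exact mem_sup_right (mem_zpowers y)

theorem Cf.mul_mem_T (hTS : T ≤ S) {a b : G} (haS : a ∈ S) (ha : a ∈ normalizer (T : Set G))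
    (haT : a ∉ T) (hbS : b ∈ S) (hb : b ∈ normalizer (T : Set G)) (hbT : b ∉ T) : a * b ∈ T := by
  by_contra hab
  have h1 := c.swap hST hTS (S.mul_mem haS hbS) (mul_mem ha hb) hab
  rw [← cj_cj, c.swap hST hTS hbS hb hbT, c.symm.swap hST hTS haS ha haT] at h1
  exact c.ne h1

theorem Cf.ea_in_T (hTS : T ≤ S) {E : Subgroup G} (hE : E ≤ S ⊓ normalizer (T : Set G))
    (hea : IsEA E) (hc : q ^ 2 ≤ Nat.card E) : E ≤ T := by
  by_contra hcon
  obtain ⟨e, he, heT⟩ := SetLike.not_le_iff_exists.mp hcon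
  have heS := (hE he).1
  have heN := (hE he).2
  have h1 : E ⊓ T ≤ OZ T := by
    intro x hx
    have h2 : e * x * e⁻¹ = x := by rw [hea.comm he hx.1, mul_inv_cancel_right]
    rw [← c.inf]
    rcases c.ea_le (inf_le_right : E ⊓ T ≤ T) (hea.mono inf_le_left) with h3 | h3
    · refine ⟨h3 hx, ?_⟩
      rw [← h2, ← c.swap hST hTS heS heN heT]
      exact conj_mem_cj.mpr (h3 hx)
    · refine ⟨?_, h3 hx⟩
      rw [← h2, ← c.symm.swap hST hTS heS heN heT]
      exact conj_mem_cj.mpr (h3 hx)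
  have h2 : (E : Set G) ⊆ ((E ⊓ T : Subgroup G) : Set G) ∪
      (fun x => e⁻¹ * x) '' ((E ⊓ T : Subgroup G) : Set G) := by
    intro x hx
    by_cases hxT : x ∈ T
    · exact Or.inl ⟨hx, hxT⟩
    · right
      refine ⟨e * x, ⟨E.mul_mem he hx, ?_⟩, by group⟩
      exact c.mul_mem_T hST hTS heS heN heT (hE hx).1 (hE hx).2 hxT
  have h3 : Nat.card E ≤ 2 * Nat.card (E ⊓ T : Subgroup G) := by
    have h4 := Set.ncard_le_ncard h2 (Set.toFinite _)
    have h5 := h4.trans (Set.ncard_union_le _ _)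
    have h6 := Set.ncard_image_le (f := fun x => e⁻¹ * x)
      (Set.toFinite ((E ⊓ T : Subgroup G) : Set G))
    have h7 : Nat.card E = Set.ncard (E : Set G) := rfl
    have h8 : Nat.card (E ⊓ T : Subgroup G) = Set.ncard ((E ⊓ T : Subgroup G) : Set G) := rfl
    omega
  have h4 : Nat.card (E ⊓ T : Subgroup G) ≤ q := by
    rw [← c.card_OZ]; exact Subgroup.card_le_of_le h1
  have h5 := c.q2
  have h6 : q ^ 2 ≤ 2 * q := by omega
  have h7 : 2 * q < q * q := Nat.mul_lt_mul_of_pos_right h5 (by omega)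
  rw [pow_two] at h6
  omega

theorem Cf.S_norm (hTS : T ≤ S) : S ≤ normalizer (T : Set G) := by
  have h2p : Fact (Nat.Prime 2) := ⟨Nat.prime_two⟩
  by_contra hcon
  have h1 : S ⊓ normalizer (T : Set G) < S := lt_of_le_of_ne inf_le_left fun h => hcon (by
    rw [← h]; exact inf_le_right)
  have h2 := lt_inf_normalizer_of_isPGroup hST.isPGroup h1
  apply h2.not_ge
  rintro n ⟨hnS, hnU⟩
  refine ⟨hnS, ?_⟩
  have hTU : T ≤ S ⊓ normalizer (T : Set G) := le_inf hTS Subgroup.le_normalizer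
  have key : ∀ {W : Subgroup G}, W ≤ T → IsEA W → Nat.card W = q ^ 2 → cj n W ≤ T := by
    intro W hW hea hc
    apply c.ea_in_T hST hTS
    · have h3 := (cj_le_cj (g := n)).mpr (hW.trans hTU)
      rwa [mem_normalizer_iff_cj.mp hnU] at h3
    · exact IsEA_cj hea n
    · rw [card_cj, hc]
  apply mem_normalizer_of_cj_le
  nth_rw 1 [c.sup]
  rw [cj_sup]
  exact sup_le (key c.VT c.h.ea c.h.card) (key c.symm.VT c.h'.ea c.h'.card)

theorem Cf.ea_S (hTS : T ≤ S) {E : Subgroup G} (hE : E ≤ S) (hea : IsEA E)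
    (hc : q ^ 2 ≤ Nat.card E) : E = V ∨ E = V' :=
  c.ea_eq (c.ea_in_T hST hTS (le_inf hE (hE.trans (c.S_norm hST hTS))) hea hc) hea hc

end

/-! ### transitivity on `V` -/

theorem Cf.relIndex_ge (c : Cf q V V' T) : q ^ 2 - 1 ≤ T.relIndex (normalizer (V : Set G)) := by
  have h2p : Fact (Nat.Prime 2) := ⟨Nat.prime_two⟩
  obtain ⟨P₁, P₂, hP₁, hP₂, hP₁₂⟩ := c.h.ex
  have hVN : V ≤ normalizer (V : Set G) := Subgroup.le_normalizer
  have hVp : IsPGroup 2 V := c.h.ea.isPGroup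
  set N : Subgroup G := normalizer (V : Set G) with hN
  have hDn : (V.subgroupOf N).Normal := (normal_subgroupOf_iff_le_normalizer hVN).mpr le_rfl
  have hDp : IsPGroup 2 (V.subgroupOf N) := (isPGroup_subgroupOf hVN).mpr hVp
  have hSep : Sep (N ⧸ V.subgroupOf N) :=
    H28.CITSep.sep_quotient (H28.CITSep.sep_subgroup c.hS N) _ hDp
  set π := QuotientGroup.mk' (V.subgroupOf N) with hπ
  have hπs : Function.Surjective π := QuotientGroup.mk'_surjective _
  have hker : π.ker = V.subgroupOf N := QuotientGroup.ker_mk' _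
  -- Sylow subgroups of `N` contain `V`
  have hVP : ∀ P : Sylow 2 N, V.subgroupOf N ≤ (P : Subgroup N) := by
    intro P x hx
    have h1 := H55.CITM2.V_le_P c.h (isSyl_map P) hx
    obtain ⟨y, hy, h2⟩ := h1
    have h3 : y = x := Subtype.ext h2
    rw [← h3]; exact hy
  have hTI : ∀ P Q : Sylow 2 (N ⧸ V.subgroupOf N), P ≠ Q →
      (P : Subgroup (N ⧸ V.subgroupOf N)) ⊓ Q = ⊥ := by
    intro P Q hPQ
    obtain ⟨P, rfl⟩ := Sylow.mapSurjective_surjective hπs 2 P
    obtain ⟨Q, rfl⟩ := Sylow.mapSurjective_surjective hπs 2 Q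
    have hPQ' : P ≠ Q := fun h => hPQ (by rw [h])
    have hne : (P : Subgroup N).map N.subtype ≠ (Q : Subgroup N).map N.subtype := by
      intro h
      apply hPQ'
      exact Sylow.ext (Subgroup.map_injective N.subtype_injective h)
    have h1 := ti_mod c.hS c.h c.cV (isSyl_map P) (isSyl_map Q) hne
    rw [eq_bot_iff]
    rintro _ ⟨⟨a, ha, rfl⟩, ⟨b, hb, hab⟩⟩
    have h2 : π b = π a := hab
    rw [hπ, QuotientGroup.mk'_eq_mk'] at h2
    obtain ⟨d, hd, h3⟩ := h2
    have h4 : a ∈ (Q : Subgroup N) := by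
      rw [← h3]; exact mul_mem hb (hVP Q hd)
    have h5 : (a : G) ∈ V := h1 ⟨⟨a, ha, rfl⟩, ⟨a, h4, rfl⟩⟩
    rw [mem_bot]
    exact (QuotientGroup.eq_one_iff a).mpr h5
  have hinj : ∀ P Q : Sylow 2 N, P.mapSurjective hπs = Q.mapSurjective hπs → P = Q := by
    intro P Q h
    apply Sylow.ext
    have h1 : (P : Subgroup N).map π = (Q : Subgroup N).map π :=
      congrArg (fun R : Sylow 2 (N ⧸ V.subgroupOf N) => (R : Subgroup (N ⧸ V.subgroupOf N))) h
    have h2 : ∀ P : Sylow 2 N, ((P : Subgroup N).map π).comap π = P := by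
      intro P
      rw [comap_map_eq, hker, sup_eq_left]
      exact hVP P
    rw [← h2 P, h1, h2 Q]
  have hne : ∃ P Q : Sylow 2 (N ⧸ V.subgroupOf N), P ≠ Q := by
    refine ⟨hP₁.toSylow.mapSurjective hπs, hP₂.toSylow.mapSurjective hπs, fun h => hP₁₂ ?_⟩
    have h1 := hinj _ _ h
    rw [← hP₁.map_toSylow, ← hP₂.map_toSylow, h1]
  set PH := c.sT.toSylow.mapSurjective hπs with hPH
  have hPHc : (PH : Subgroup (N ⧸ V.subgroupOf N)) = (T.subgroupOf N).map π := rfl
  obtain ⟨q', m, hq', hm, hOZ, -, hnorm, hsyl, -⟩ := Lead.CIT3.ti_struct hSep hTI hne PH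
  have hTN : T ≤ N := c.sT.le
  have hq0 : 0 < q := by have := c.q2; omega
  -- index and order of `PH`
  have hidx : (PH : Subgroup (N ⧸ V.subgroupOf N)).index = T.relIndex N := by
    rw [hPHc, Subgroup.index_map_eq _ hπs]
    · rfl
    · rw [hker]
      intro x hx
      exact c.VT hx
  have hcardN : T.relIndex N * q ^ 3 = Nat.card N := by
    rw [← c.card]; exact relIndex_mul_card hTN
  have hcardH : Nat.card (N ⧸ V.subgroupOf N) * q ^ 2 = Nat.card N := by
    have h1 := Subgroup.card_eq_card_quotient_mul_card_subgroup (V.subgroupOf N)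
    rw [card_subgroupOf hVN, c.h.card] at h1
    exact h1.symm
  have hcardP : Nat.card PH = q := by
    have h1 : Nat.card PH * (PH : Subgroup (N ⧸ V.subgroupOf N)).index =
        Nat.card (N ⧸ V.subgroupOf N) := Subgroup.card_mul_index _
    rw [hidx] at h1
    have h2 : Nat.card PH * T.relIndex N * q ^ 2 = T.relIndex N * q ^ 3 := by
      rw [h1, hcardH, hcardN]
    have h3 : 0 < T.relIndex N := by
      rcases Nat.eq_zero_or_pos (T.relIndex N) with h4 | h4
      · rw [h4, zero_mul] at hcardN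
        exact absurd hcardN.symm (Nat.card_pos (α := N)).ne'
      · exact h4
    have h4 : (T.relIndex N * q ^ 2) * Nat.card PH = (T.relIndex N * q ^ 2) * q := by
      calc (T.relIndex N * q ^ 2) * Nat.card PH = Nat.card PH * T.relIndex N * q ^ 2 := by ring
        _ = T.relIndex N * q ^ 3 := h2
        _ = _ := by ring
    exact Nat.eq_of_mul_eq_mul_left (by positivity) h4
  -- `PH` is elementary abelian
  have hEA : IsEA (PH : Subgroup (N ⧸ V.subgroupOf N)) := by
    rintro X ⟨a, ha, rfl⟩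
    have h1 : (a : G) ∈ T := ha
    have h2 := c.h.oz T c.sT (c.sq_mem h1)
    rw [← map_mul]
    exact (QuotientGroup.eq_one_iff (a * a)).mpr h2
  have hOZ2 : OZ (PH : Subgroup (N ⧸ V.subgroupOf N)) = PH := by
    apply le_antisymm (OZ_le _)
    intro X hX
    exact ⟨hX, hEA X hX, fun Y hY => hEA.comm hX hY⟩
  have hqq : q' = q := by rw [← hOZ, hOZ2]; exact hcardP
  rw [hqq] at hnorm
  -- `|H| = |N_H(P)| (1 + m q)`
  have hcount : Nat.card (N ⧸ V.subgroupOf N) = (1 + m * q) * (q * (q - 1)) := by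
    have h1 : Nat.card (Sylow 2 (N ⧸ V.subgroupOf N)) =
        (normalizer ((PH : Subgroup (N ⧸ V.subgroupOf N)) : Set (N ⧸ V.subgroupOf N))).index :=
      Sylow.card_eq_index_normalizer PH
    have h2 := Subgroup.card_mul_index (normalizer ((PH : Subgroup (N ⧸ V.subgroupOf N)) :
      Set (N ⧸ V.subgroupOf N)))
    rw [hnorm, hcardP, ← h1, hsyl, hcardP] at h2
    rw [← h2]; ring
  have h5 : T.relIndex N * q = (1 + m * q) * (q - 1) * q := by
    have h1 : Nat.card PH * (PH : Subgroup (N ⧸ V.subgroupOf N)).index =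
        Nat.card (N ⧸ V.subgroupOf N) := Subgroup.card_mul_index _
    rw [hidx, hcardP, hcount] at h1
    calc T.relIndex N * q = q * T.relIndex N := by ring
      _ = _ := by rw [h1]; ring
  have h6 : T.relIndex N = (1 + m * q) * (q - 1) := Nat.eq_of_mul_eq_mul_right hq0 h5
  rw [h6]
  calc q ^ 2 - 1 = (1 + 1 * q) * (q - 1) := by
        obtain ⟨k, rfl⟩ : ∃ k, q = k + 1 := ⟨q - 1, by omega⟩
        have h7 : (k + 1) ^ 2 = (1 + 1 * (k + 1)) * k + 1 := by ring
        rw [Nat.add_sub_cancel]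
        omega
    _ ≤ (1 + m * q) * (q - 1) := by
        apply Nat.mul_le_mul_right
        have := Nat.mul_le_mul_right q hm
        omega

/-- `N(V)` is transitive on `V - {1}` -/
theorem Cf.trans_V (c : Cf q V V' T) {z v : G} (hz : z ∈ OZ T) (hz1 : z ≠ 1) (hv : v ∈ V)
    (hv1 : v ≠ 1) : ∃ n ∈ normalizer (V : Set G), n * z * n⁻¹ = v := by
  have h2p : Fact (Nat.Prime 2) := ⟨Nat.prime_two⟩
  have hzV : z ∈ V := c.h.oz T c.sT hz
  set O : Set G := {y : G | ∃ n ∈ normalizer (V : Set G), y = n * z * n⁻¹} with hO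
  have h1 : centralizer ({z} : Set G) ⊓ normalizer (V : Set G) = T := by
    apply c.sT.eq_of_le
    · exact (Lead.CIT3.sep_centralizer c.hS (c.h.ea.orderOf hzV hz1)).to_le inf_le_left
    · refine le_inf ?_ c.sT.le
      intro t ht
      rw [mem_centralizer_singleton_iff]
      exact (hz.2.2 t ht).symm
    · exact inf_le_right
  have h2 : Set.ncard O = T.relIndex (normalizer (V : Set G)) := by
    rw [hO, ← H91.LargePair2.relIndex_centralizer_singleton, ← h1, inf_relIndex_right]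
  have h3 : O ⊆ {y : G | y ∈ V ∧ y ≠ 1} := by
    rintro y ⟨n, hn, rfl⟩
    refine ⟨(mem_normalizer_iff.mp hn z).mp hzV, fun h => hz1 ?_⟩
    rw [mul_inv_eq_one] at h
    exact mul_eq_left.mp h
  have h4 : Set.ncard {y : G | y ∈ V ∧ y ≠ 1} = q ^ 2 - 1 := by
    have h5 : {y : G | y ∈ V ∧ y ≠ 1} = (V : Set G) \ {1} := by ext y; rfl
    rw [h5, Set.ncard_sdiff (by rw [Set.singleton_subset_iff]; exact V.one_mem),
      Set.ncard_singleton]
    have h6 : Set.ncard (V : Set G) = Nat.card V := rfl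
    rw [h6, c.h.card]
  have h5 : O = {y : G | y ∈ V ∧ y ≠ 1} := by
    apply Set.eq_of_subset_of_ncard_le h3
    rw [h4, h2]; exact c.relIndex_ge
  have h6 : v ∈ O := by rw [h5]; exact ⟨hv, hv1⟩
  obtain ⟨n, hn, h7⟩ := h6
  exact ⟨n, hn, h7.symm⟩

theorem Cf.cent_syl (c : Cf q V V' T) (hST : IsSyl 2 S ⊤) (hTS : T ≤ S) {v : G} (hv : v ∈ V)
    (hv1 : v ≠ 1) : IsSyl 2 (centralizer ({v} : Set G)) ⊤ := by
  have h2p : Fact (Nat.Prime 2) := ⟨Nat.prime_two⟩
  have hSN := c.S_norm hST hTS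
  have hSZ : S ≤ normalizer ((OZ T : Subgroup G) : Set G) := by
    apply le_normalizer_of_conj_mem
    intro s hs z hz
    have hsT : ∀ t ∈ T, s⁻¹ * t * s ∈ T := by
      intro t ht
      have := conj_mem_of_le_normalizer hSN (S.inv_mem hs) ht
      rwa [inv_inv] at this
    refine ⟨conj_mem_of_le_normalizer hSN hs hz.1, ?_, ?_⟩
    · calc s * z * s⁻¹ * (s * z * s⁻¹) = s * (z * z) * s⁻¹ := by group
        _ = 1 := by rw [hz.2.1]; group
    · intro y hy
      have := hz.2.2 _ (hsT y hy)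
      calc s * z * s⁻¹ * y = s * (z * (s⁻¹ * y * s)) * s⁻¹ := by group
        _ = s * (s⁻¹ * y * s * z) * s⁻¹ := by rw [this]
        _ = y * (s * z * s⁻¹) := by group
  have h1 := H65.PBasic.inf_centralizer_ne_bot S (OZ T) hST.isPGroup (IsEA_OZ T).isPGroup hSZ c.OZ_ne
  obtain ⟨z, hz, hz1⟩ := (bot_or_exists_ne_one _).resolve_left h1
  have hzV : z ∈ V := c.h.oz T c.sT hz.1
  have h2 : IsSyl 2 (centralizer ({z} : Set G)) ⊤ := by
    have h3 := hST.eq_of_le (Lead.CIT3.sep_centralizer c.hS (c.h.ea.orderOf hzV hz1))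
      (fun s hs => by
        rw [mem_centralizer_singleton_iff]
        exact mem_centralizer_iff.mp hz.2 s hs) le_top
    rw [h3]; exact hST
  obtain ⟨n, hn, hnv⟩ := c.trans_V hz.1 hz1 hv hv1
  have h3 := h2.cj n
  rw [cj_centralizer_singleton, hnv, cj_top] at h3
  exact h3

/-! ### the two cases -/

/-- `h x h⁻¹`-type computation: an element of order two central in a Sylow subgroup -/
theorem Cf.central_mem (c : Cf q V V' T) (hST : IsSyl 2 S ⊤) (hTS : T ≤ S) {x : G} (hx : x ∈ S)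
    (hxx : x * x = 1) (hxc : ∀ s ∈ S, x * s = s * x) : x ∈ OZ T := by
  have hSN := c.S_norm hST hTS
  have hxT : x ∈ T := by
    by_contra hxT
    have h1 := c.swap hST hTS hx (hSN hx) hxT
    apply c.ne
    rw [← h1]
    symm
    apply cj_eq_self_of_mem_centralizer
    rw [mem_centralizer_iff]
    intro v hv
    exact (hxc v (hTS (c.VT hv))).symm
  exact ⟨hxT, hxx, fun y hy => hxc y (hTS hy)⟩

/-- a conjugate `cj h V` or `cj h V'` containing an involution of `OZ T` is `V` or `V'` -/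
theorem Cf.cj_eq (c : Cf q V V' T) (hST : IsSyl 2 S ⊤) (hTS : T ≤ S) {z : G} (hz : z ∈ OZ T)
    (hz1 : z ≠ 1) {E : Subgroup G} (hE : IsEA E) (hc : q ^ 2 ≤ Nat.card E) (hzE : z ∈ E) :
    E = V ∨ E = V' := by
  have h1 := c.cent_syl hST hTS (c.h.oz T c.sT hz) hz1
  apply c.ea_S h1 _ _ hE hc
  · intro t ht
    rw [mem_centralizer_singleton_iff]
    exact (hz.2.2 t ht).symm
  · intro e he
    rw [mem_centralizer_singleton_iff]
    exact hE.comm he hzE

theorem Cf.case_a (c : Cf q V V' T) (hST : IsSyl 2 S ⊤) (hTS : T ≤ S) {x g : G} (hxS : x ∈ S)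
    (hxT : x ∉ T) (hxx : x * x = 1) (hg : g * x * g⁻¹ ∈ T) : False := by
  have h2p : Fact (Nat.Prime 2) := ⟨Nat.prime_two⟩
  have hSN := c.S_norm hST hTS
  have hx1 : x ≠ 1 := fun h => hxT (by rw [h]; exact T.one_mem)
  have hxi : x⁻¹ = x := inv_eq_of_mul_eq_one_left hxx
  have hsw : cj x V = V' := c.swap hST hTS hxS (hSN hxS) hxT
  have hsw' : cj x V' = V := c.symm.swap hST hTS hxS (hSN hxS) hxT
  -- `C(x)` is a Sylow subgroup
  have ht1 : g * x * g⁻¹ ≠ 1 := by
    intro h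
    rw [mul_inv_eq_one] at h
    exact hx1 (mul_eq_left.mp h)
  have htt : g * x * g⁻¹ * (g * x * g⁻¹) = 1 := by
    calc g * x * g⁻¹ * (g * x * g⁻¹) = g * (x * x) * g⁻¹ := by group
      _ = 1 := by rw [hxx]; group
  have hCt : IsSyl 2 (centralizer ({g * x * g⁻¹} : Set G)) ⊤ := by
    rcases c.inv _ hg htt with h1 | h1
    · exact c.cent_syl hST hTS h1 ht1
    · exact c.symm.cent_syl hST hTS h1 ht1
  have hCx : IsSyl 2 (centralizer ({x} : Set G)) ⊤ := by
    have h1 := hCt.cj g⁻¹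
    rw [cj_centralizer_singleton, cj_top] at h1
    have h2 : g⁻¹ * (g * x * g⁻¹) * g⁻¹⁻¹ = x := by group
    rwa [h2] at h1
  obtain ⟨k, -, hk⟩ := hST.exists_conj_eq hCx
  have hk' : centralizer ({x} : Set G) = cj k S := hk
  -- `x ∈ cj k (OZ T)`
  have hxZ : k⁻¹ * x * k ∈ OZ T := by
    have hxk : x ∈ cj k S := by rw [← hk', mem_centralizer_singleton_iff]
    apply c.central_mem hST hTS (mem_cj.mp hxk)
    · calc k⁻¹ * x * k * (k⁻¹ * x * k) = k⁻¹ * (x * x) * k := by group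
        _ = 1 := by rw [hxx]; group
    · intro s hs
      have h1 : k * s * k⁻¹ ∈ centralizer ({x} : Set G) := by
        rw [hk']; exact conj_mem_cj.mpr hs
      rw [mem_centralizer_singleton_iff] at h1
      calc k⁻¹ * x * k * s = k⁻¹ * (x * (k * s * k⁻¹)) * k := by group
        _ = k⁻¹ * (k * s * k⁻¹ * x) * k := by rw [h1]
        _ = s * (k⁻¹ * x * k) := by group
  -- elements of `OZ T` commuting with `x`
  have claim1 : ∀ z ∈ OZ T, z ≠ 1 → k⁻¹ * z * k ∉ T := by
    intro z hz hz1 hzT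
    have hzz : k⁻¹ * z * k * (k⁻¹ * z * k) = 1 := by
      calc k⁻¹ * z * k * (k⁻¹ * z * k) = k⁻¹ * (z * z) * k := by group
        _ = 1 := by rw [hz.2.1]; group
    have key : ∀ A : Subgroup G, IsEA A → Nat.card A = q ^ 2 → OZ T ≤ A → k⁻¹ * z * k ∈ A →
        False := by
      intro A hA hAc hOA hzA
      have h1 := c.cj_eq hST hTS hz hz1 (IsEA_cj hA k) (by rw [card_cj, hAc]) (mem_cj.mpr hzA)
      have h2 : x ∈ cj k A := mem_cj.mpr (hOA hxZ)
      apply hxT
      rcases h1 with h1 | h1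
      · rw [h1] at h2; exact c.VT h2
      · rw [h1] at h2; exact c.symm.VT h2
    rcases c.inv _ hzT hzz with h1 | h1
    · exact key V c.h.ea c.h.card (c.h.oz T c.sT) h1
    · exact key V' c.h'.ea c.h'.card (c.h'.oz T c.sT') h1
  have hmemS : ∀ a : G, x * a = a * x → k⁻¹ * a * k ∈ S := by
    intro a ha
    rw [← mem_cj, ← hk', mem_centralizer_singleton_iff]
    exact ha.symm
  have claim2 : ∀ a b : G, x * a = a * x → x * b = b * x → k⁻¹ * a * k ∉ T → k⁻¹ * b * k ∉ T →
      k⁻¹ * (a * b) * k ∈ T := by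
    intro a b ha hb haT hbT
    have h1 := c.mul_mem_T hST hTS (hmemS a ha) (hSN (hmemS a ha)) haT (hmemS b hb)
      (hSN (hmemS b hb)) hbT
    have h2 : k⁻¹ * (a * b) * k = k⁻¹ * a * k * (k⁻¹ * b * k) := by group
    rw [h2]; exact h1
  have claim3 : ∀ z ∈ OZ T, ∀ z' ∈ OZ T, z ≠ 1 → z' ≠ 1 → x * z = z * x → x * z' = z' * x →
      z = z' := by
    intro z hz z' hz' hz1 hz1' hxz hxz'
    have h1 := claim2 z z' hxz hxz' (claim1 z hz hz1) (claim1 z' hz' hz1')
    by_contra hne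
    refine claim1 (z * z') ((OZ T).mul_mem hz hz') (fun h => hne ?_) h1
    have h2 : z'⁻¹ = z' := inv_eq_of_mul_eq_one_left hz'.2.1
    rw [← h2]; exact eq_inv_of_mul_eq_one_left h
  -- squares
  have claim4 : ∀ a ∈ T, x * a = a * x → a ∈ OZ T := by
    intro a ha hxa
    by_cases haa : a * a = 1
    · rw [← c.inf]
      have hxax : x * a * x⁻¹ = a := by rw [hxa]; group
      rcases c.inv a ha haa with h1 | h1
      · refine ⟨h1, ?_⟩
        rw [← hxax, ← hsw]; exact conj_mem_cj.mpr h1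
      · refine ⟨?_, h1⟩
        rw [← hxax, ← hsw']; exact conj_mem_cj.mpr h1
    · exfalso
      have h1 : k⁻¹ * (a * a) * k ∉ T := claim1 _ (c.sq_mem ha) haa
      by_cases h2 : k⁻¹ * a * k ∈ T
      · apply h1
        have h3 : k⁻¹ * (a * a) * k = k⁻¹ * a * k * (k⁻¹ * a * k) := by group
        rw [h3]; exact T.mul_mem h2 h2
      · exact h1 (claim2 a a hxa hxa h2 h2)
  -- the element `w`
  obtain ⟨v, hv, hvZ⟩ : ∃ v ∈ V, v ∉ OZ T := by
    by_contra hcon
    push Not at hcon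
    have h1 : V ≤ OZ T := hcon
    have h2 := Subgroup.card_le_of_le h1
    rw [c.card_OZ, c.h.card] at h2
    have h3 := c.q2
    nlinarith
  have hv' : x * v * x⁻¹ ∈ V' := by rw [← hsw]; exact conj_mem_cj.mpr hv
  have hOZx : ∀ z ∈ OZ T, x * z * x⁻¹ ∈ OZ T := by
    intro z hz
    rw [← c.inf] at hz ⊢
    refine ⟨?_, ?_⟩
    · rw [← hsw']; exact conj_mem_cj.mpr hz.2
    · rw [← hsw]; exact conj_mem_cj.mpr hz.1
  have hvT : v ∈ T := c.VT hv
  have hv'T : x * v * x⁻¹ ∈ T := c.symm.VT hv'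
  set v' : G := x * v * x⁻¹ with hv'def
  have hxv' : x * v' * x⁻¹ = v := by
    calc x * v' * x⁻¹ = (x * x) * v * (x * x)⁻¹ := by rw [hv'def]; group
      _ = v := by rw [hxx]; group
  have hwT : v * v' ∈ T := T.mul_mem hvT hv'T
  have hxw : x * (v * v') * x⁻¹ = v' * v := by
    calc x * (v * v') * x⁻¹ = (x * v * x⁻¹) * (x * v' * x⁻¹) := by group
      _ = v' * v := by rw [hxv']
  have hwZ : v * v' ∉ OZ T := by
    intro h1
    have h2 : v' ∈ V := by
      have : v' = v⁻¹ * (v * v') := by group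
      rw [this]; exact V.mul_mem (V.inv_mem hv) (c.h.oz T c.sT h1)
    have h3 : v' ∈ OZ T := by rw [← c.inf]; exact ⟨h2, hv'⟩
    apply hvZ
    rw [← hxv']; exact hOZx _ h3
  -- the commutator
  have hvi : v⁻¹ = v := c.h.ea.inv_eq hv
  have hvi' : v'⁻¹ = v' := c.h'.ea.inv_eq hv'
  set d : G := (v' * v) * (v' * v) with hd
  have hdZ : d ∈ OZ T := c.sq_mem (T.mul_mem hv'T hvT)
  have hwd : v' * v = v * v' * d := by
    have : (v * v')⁻¹ = v' * v := by rw [mul_inv_rev, hvi, hvi']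
    rw [hd, ← this]; group
  have hdd : d * d = 1 := hdZ.2.1
  have hxd : x * d * x⁻¹ = d := by
    have h1 : (v * v')⁻¹ = v' * v := by rw [mul_inv_rev, hvi, hvi']
    have h2 : (v' * v)⁻¹ = v * v' := by rw [mul_inv_rev, hvi, hvi']
    have h3 : x * (v' * v) * x⁻¹ = v * v' := by
      calc x * (v' * v) * x⁻¹ = (x * v' * x⁻¹) * (x * v * x⁻¹) := by group
        _ = v * v' := by rw [hxv', ← hv'def]
    calc x * d * x⁻¹ = (x * (v' * v) * x⁻¹) * (x * (v' * v) * x⁻¹) := by rw [hd]; group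
      _ = (v * v') * (v * v') := by rw [h3]
      _ = d⁻¹ := by rw [hd, mul_inv_rev, h2]
      _ = d := inv_eq_of_mul_eq_one_left hdd
  have hxd' : x * d = d * x := by
    calc x * d = (x * d * x⁻¹) * x := by group
      _ = d * x := by rw [hxd]
  by_cases hd1 : d = 1
  · apply hwZ
    apply claim4 _ hwT
    rw [hd1, mul_one] at hwd
    calc x * (v * v') = (x * (v * v') * x⁻¹) * x := by group
      _ = v * v' * x := by rw [hxw, hwd]
  · -- `u`
    obtain ⟨u, hu, hxu⟩ : ∃ u ∈ OZ T, x * u ≠ u * x := by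
      by_contra hcon
      push Not at hcon
      have h1 : (OZ T : Set G) ⊆ {1, d} := by
        intro z hz
        by_cases hz1 : z = 1
        · left; exact hz1
        · right
          exact claim3 z hz d hdZ hz1 hd1 (hcon z hz) hxd'
      have h2 := Set.ncard_le_ncard h1 (Set.toFinite _)
      have h3 : Set.ncard ((OZ T : Subgroup G) : Set G) = Nat.card (OZ T) := rfl
      rw [h3, c.card_OZ] at h2
      have h4 := Set.ncard_insert_le (1 : G) {d}
      rw [Set.ncard_singleton] at h4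
      have h5 := c.q2
      omega
    have hxuZ := hOZx u hu
    have hui : u⁻¹ = u := inv_eq_of_mul_eq_one_left hu.2.1
    set u' : G := x * u * x⁻¹ with hu'
    have hxu' : x * u' * x⁻¹ = u := by
      calc x * u' * x⁻¹ = (x * x) * u * (x * x)⁻¹ := by rw [hu']; group
        _ = u := by rw [hxx]; group
    have huu' : u * u' = u' * u := hu.2.2 _ hxuZ.1
    have h1 : u * u' = d := by
      apply claim3 _ ((OZ T).mul_mem hu hxuZ) _ hdZ _ hd1 _ hxd'
      · intro h2
        apply hxu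
        have h3 : u' = u := by
          rw [← hui]; exact (inv_eq_of_mul_eq_one_right h2).symm
        calc x * u = u' * x := by rw [hu']; group
          _ = u * x := by rw [h3]
      · calc x * (u * u') = (x * u * x⁻¹) * (x * u' * x⁻¹) * x := by group
          _ = u' * u * x := by rw [hxu', ← hu']
          _ = u * u' * x := by rw [huu']
    have hu'd : u' = u * d := by
      rw [← h1]
      calc u' = (u * u) * u' := by rw [hu.2.1, one_mul]
        _ = u * (u * u') := by group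
    have haT : v * v' * u ∈ T := T.mul_mem hwT hu.1
    have hxa : x * (v * v' * u) = v * v' * u * x := by
      calc x * (v * v' * u) = (x * (v * v') * x⁻¹) * (x * u * x⁻¹) * x := by group
        _ = (v * v' * d) * (u * d) * x := by rw [hxw, hwd, ← hu', hu'd]
        _ = v * v' * (d * (u * d)) * x := by group
        _ = v * v' * ((u * d) * d) * x := by rw [hdZ.2.2 (u * d) (T.mul_mem hu.1 hdZ.1)]
        _ = v * v' * u * (d * d) * x := by group
        _ = v * v' * u * x := by rw [hdd, mul_one]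
    apply hwZ
    have h2 := claim4 _ haT hxa
    have h3 : v * v' = v * v' * u * u⁻¹ := by group
    rw [h3]; exact (OZ T).mul_mem h2 ((OZ T).inv_mem hu)

theorem Cf.case_b (c : Cf q V V' T) (hST : IsSyl 2 S ⊤) (hTS : T ≤ S) {x g : G} (hxS : x ∈ S)
    (hxT : x ∉ T) (hxx : x * x ≠ 1) (hg : g * x * g⁻¹ ∈ T) : False := by
  have h2p : Fact (Nat.Prime 2) := ⟨Nat.prime_two⟩
  have hSN := c.S_norm hST hTS
  have hsw : cj x V = V' := c.swap hST hTS hxS (hSN hxS) hxT
  have hsw' : cj x V' = V := c.symm.swap hST hTS hxS (hSN hxS) hxT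
  have htZ : g * (x * x) * g⁻¹ ∈ OZ T := by
    have h1 := c.sq_mem hg
    have h2 : g * (x * x) * g⁻¹ = g * x * g⁻¹ * (g * x * g⁻¹) := by group
    rw [h2]; exact h1
  have ht1 : g * (x * x) * g⁻¹ ≠ 1 := by
    intro h
    rw [mul_inv_eq_one] at h
    exact hxx (mul_eq_left.mp h)
  have hxxT : x * x ∈ T := c.mul_mem_T hST hTS hxS (hSN hxS) hxT hxS (hSN hxS) hxT
  have hx4 : x * x * (x * x) = 1 := by
    have h1 := htZ.2.1
    have h2 : g * (x * x * (x * x)) * g⁻¹ = 1 := by rw [← h1]; group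
    rw [mul_inv_eq_one] at h2
    exact mul_eq_left.mp h2
  have hxc : x * (x * x) * x⁻¹ = x * x := by group
  have hxxZ : x * x ∈ OZ T := by
    rw [← c.inf]
    rcases c.inv _ hxxT hx4 with h1 | h1
    · refine ⟨h1, ?_⟩
      rw [← hxc, ← hsw]; exact conj_mem_cj.mpr h1
    · refine ⟨?_, h1⟩
      rw [← hxc, ← hsw']; exact conj_mem_cj.mpr h1
  have hCt := c.cent_syl hST hTS (c.h.oz T c.sT htZ) ht1
  have hTC : T ≤ centralizer ({g * (x * x) * g⁻¹} : Set G) := by
    intro t ht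
    rw [mem_centralizer_singleton_iff]
    exact (htZ.2.2 t ht).symm
  have hTx : cj g T ≤ centralizer ({g * (x * x) * g⁻¹} : Set G) := by
    rw [← cj_centralizer_singleton, cj_le_cj]
    intro t ht
    rw [mem_centralizer_singleton_iff]
    exact (hxxZ.2.2 t ht).symm
  have h1 := c.ea_S hCt hTC ((cj_le_cj.mpr c.VT).trans hTx) (IsEA_cj c.h.ea g)
    (by rw [card_cj, c.h.card])
  have h2 := c.ea_S hCt hTC ((cj_le_cj.mpr c.symm.VT).trans hTx) (IsEA_cj c.h'.ea g)
    (by rw [card_cj, c.h'.card])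
  have h3 : g ∈ normalizer (T : Set G) := by
    apply mem_normalizer_of_cj_le
    nth_rw 1 [c.sup]
    rw [cj_sup]
    apply sup_le
    · rcases h1 with h | h
      · rw [h]; exact c.VT
      · rw [h]; exact c.symm.VT
    · rcases h2 with h | h
      · rw [h]; exact c.VT
      · rw [h]; exact c.symm.VT
  apply hxT
  exact (mem_normalizer_iff.mp h3 x).mpr hg

/-- **M7**: exclusion of the swap -/
theorem no_swap {G : Type u} [Group G] [Finite G] [IsSimpleGroup G] (hna : ∃ a b : G, a * b ≠ b * a)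
    (hS : Sep G) {q : ℕ} (hq : 2 < q) {V V' T S : Subgroup G} (h : Nat2 q V) (h' : Nat2 q V')
    (hP : IsSyl 2 T (normalizer (V : Set G))) (hP' : IsSyl 2 T (normalizer (V' : Set G)))
    (hf : ¬ V' ≤ centralizer (V : Set G)) (hST : IsSyl 2 S ⊤) (hTS : T < S) : False := by
  obtain ⟨h1, h2, h3, h4, h5, h6⟩ := H55.CITM2.b_one hS h h' hP hP' hf
  have c : Cf q V V' T := ⟨hS, hq, h, h', hP, hP', h1, h2, h3, h4, h5, h6⟩
  have hSN := c.S_norm hST hTS.le
  obtain ⟨x₀, hx₀S, hx₀T⟩ := SetLike.exists_of_lt hTS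
  obtain ⟨x, ⟨hxS, hxT⟩, hmin⟩ := Set.exists_min_image {x : G | x ∈ S ∧ x ∉ T} orderOf
    (Set.toFinite _) ⟨x₀, hx₀S, hx₀T⟩
  obtain ⟨g, hg⟩ := H28.CITTr.exists_fused hna hST
    (fun a ha b hb haT hbT => c.mul_mem_T hST hTS.le ha (hSN ha) haT hb (hSN hb) hbT) hxS hxT
    (fun y hy hyT => hmin y ⟨hy, hyT⟩)
  by_cases hxx : x * x = 1
  · exact c.case_a hST hTS.le hxS hxT hxx hg
  · exact c.case_b hST hTS.le hxS hxT hxx hg

end H28.CITM7
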