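import Mathlib
import Cfsg.Agent.Lib.H83.CITM4
import Cfsg.Agent.Lib.H28.CITSep
import Cfsg.Agent.Lib.H65.PBasic

/-!
Team T-CIT, M5: overgroups of simple `Sep` groups with TI Sylow `2`-subgroups.
-/

set_option autoImplicit false
set_option linter.unusedSectionVars false

namespace H28.CITM5

open Subgroup H28.Cj H28.RelSyl Lead.CIT

universe u

variable {H : Type u} [Group H] [Finite H]

/-- trivial intersections for the relative Sylow subgroups of `L` -/
theorem ti_rel {L : Subgroup H}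
    (hTI : ∀ P Q : Sylow 2 L, P ≠ Q → (P : Subgroup L) ⊓ Q = ⊥) {Q Q' : Subgroup H}
    (hQ : IsSyl 2 Q L) (hQ' : IsSyl 2 Q' L) (hne : Q ≠ Q') : Q ⊓ Q' = ⊥ := by
  have h2p : Fact (Nat.Prime 2) := ⟨Nat.prime_two⟩
  obtain ⟨P, rfl⟩ := isSyl_iff_exists.mp hQ
  obtain ⟨P', rfl⟩ := isSyl_iff_exists.mp hQ'
  have h1 : P ≠ P' := fun h => hne (by rw [h])
  rw [← Subgroup.map_inf _ _ _ L.subtype_injective, hTI P P' h1, Subgroup.map_bot]

theorem ncard_syl (L : Subgroup H) :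
    Set.ncard {Q : Subgroup H | IsSyl 2 Q L} = Nat.card (Sylow 2 L) := by
  have h2p : Fact (Nat.Prime 2) := ⟨Nat.prime_two⟩
  have h1 : {Q : Subgroup H | IsSyl 2 Q L} =
      Set.range (fun P : Sylow 2 L => (P : Subgroup L).map L.subtype) := by
    ext Q
    constructor
    · intro h
      obtain ⟨P, hP⟩ := isSyl_iff_exists.mp h
      exact ⟨P, hP⟩
    · rintro ⟨P, rfl⟩
      exact isSyl_map P
  rw [h1]
  apply Set.ncard_range_of_injective
  intro P P' h
  exact Sylow.ext (Subgroup.map_injective L.subtype_injective h)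

section

variable {L : Subgroup H} (hTI : ∀ Q Q' : Subgroup H, IsSyl 2 Q L → IsSyl 2 Q' L → Q ≠ Q' → Q ⊓ Q' = ⊥)
  (hcard : ∀ Q : Subgroup H, IsSyl 2 Q L → Set.ncard {Q : Subgroup H | IsSyl 2 Q L} = 1 + Nat.card Q)

include hTI in
theorem free {Q Q' : Subgroup H} (hQ : IsSyl 2 Q L) (hQ' : IsSyl 2 Q' L) (hne : Q ≠ Q') {x : H}
    (hx : x ∈ Q) (hxQ : cj x Q' = Q') : x = 1 := by
  have h2p : Fact (Nat.Prime 2) := ⟨Nat.prime_two⟩
  have hz : IsPGroup 2 (zpowers x) := hQ.isPGroup.to_le (by rwa [zpowers_le])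
  have hzn : zpowers x ≤ normalizer (Q' : Set H) := by
    rw [zpowers_le]; exact mem_normalizer_iff_cj.mpr hxQ
  have h1 : IsPGroup 2 (Q' ⊔ zpowers x : Subgroup H) :=
    IsPGroup.to_sup_of_normal_left' hQ'.isPGroup hz hzn
  have h2 := hQ'.eq_of_le h1 le_sup_left (sup_le hQ'.le (by
    rw [zpowers_le]; exact hQ.le hx))
  have h3 : x ∈ Q' := by
    rw [← h2]; exact mem_sup_right (mem_zpowers x)
  have h4 : x ∈ Q ⊓ Q' := ⟨hx, h3⟩
  rwa [hTI Q Q' hQ hQ' hne, mem_bot] at h4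

include hTI hcard in
theorem trans {Q w w' : Subgroup H} (hQ : IsSyl 2 Q L) (hw : IsSyl 2 w L) (hw' : IsSyl 2 w' L)
    (hne : Q ≠ w) (hne' : Q ≠ w') : ∃ x ∈ Q, cj x w = w' := by
  have h2p : Fact (Nat.Prime 2) := ⟨Nat.prime_two⟩
  have h1 : Set.InjOn (fun x : H => cj x w) (Q : Set H) := by
    intro x hx y hy hxy
    have h2 : cj (y⁻¹ * x) w = w := by
      rw [← cj_cj]
      have h3 : cj x w = cj y w := hxy
      rw [h3, cj_inv_cj]
    have h3 := free hTI hQ hw hne (Q.mul_mem (Q.inv_mem hy) hx) h2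
    exact (inv_mul_eq_one.mp h3).symm
  have h2 : (fun x : H => cj x w) '' (Q : Set H) ⊆ {P : Subgroup H | IsSyl 2 P L} \ {Q} := by
    rintro _ ⟨x, hx, rfl⟩
    refine ⟨hw.cj_of_mem (hQ.le hx), fun h => hne ?_⟩
    have h3 : cj x w = Q := h
    rw [cj_eq_iff, cj_eq_self_of_mem (Q.inv_mem hx)] at h3
    exact h3.symm
  have h3 : Set.ncard ((fun x : H => cj x w) '' (Q : Set H)) = Nat.card Q :=
    h1.ncard_image
  have h4 : Set.ncard ({P : Subgroup H | IsSyl 2 P L} \ {Q}) = Nat.card Q := by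
    rw [Set.ncard_sdiff (by rw [Set.singleton_subset_iff]; exact hQ), Set.ncard_singleton,
      hcard Q hQ]
    omega
  have h5 : (fun x : H => cj x w) '' (Q : Set H) = {P : Subgroup H | IsSyl 2 P L} \ {Q} :=
    Set.eq_of_subset_of_ncard_le h2 (by rw [h3, h4]) (Set.toFinite _)
  have h6 : w' ∈ (fun x : H => cj x w) '' (Q : Set H) := by
    rw [h5]; exact ⟨hw', fun h => hne' (by rw [Set.mem_singleton_iff.mp h])⟩
  obtain ⟨x, hx, h7⟩ := h6
  exact ⟨x, hx, h7⟩

include hTI hcard in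
theorem trans_fix {Q w w' : Subgroup H} (hQ : IsSyl 2 Q L) (hw : IsSyl 2 w L) (hw' : IsSyl 2 w' L)
    (hne : Q ≠ w) (hne' : Q ≠ w') {t : H} (htQ : cj t Q = Q) (htw : cj t w = w)
    (htw' : cj t w' = w') : ∃ x ∈ Q, t * x = x * t ∧ cj x w = w' := by
  obtain ⟨x, hx, hxw⟩ := trans hTI hcard hQ hw hw' hne hne'
  refine ⟨x, hx, ?_, hxw⟩
  have h1 : t * x * t⁻¹ ∈ Q := (mem_normalizer_iff.mp (mem_normalizer_iff_cj.mpr htQ) x).mp hx
  have h2 : cj (x⁻¹ * (t * x * t⁻¹)) w = w := by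
    have h3 : cj t⁻¹ w = w := by rw [cj_eq_iff, inv_inv]; exact htw.symm
    rw [← cj_cj, ← cj_cj, ← cj_cj, h3, hxw, htw', ← hxw, cj_inv_cj]
  have h3 := free hTI hQ hw hne (Q.mul_mem (Q.inv_mem hx) h1) h2
  have h4 : x = t * x * t⁻¹ := inv_mul_eq_one.mp h3
  calc t * x = (t * x * t⁻¹) * t := by group
    _ = x * t := by rw [← h4]

/-- conjugation as an action on subgroups -/
@[reducible] def act (K : Subgroup H) : MulAction K (Subgroup H) where
  smul k X := cj (k : H) X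
  one_smul X := cj_one X
  mul_smul a b X := (cj_cj (a : H) b X).symm

include hTI hcard in
/-- no involution fixes two points -/
theorem no_fix (hS : Sep H) {Q w : Subgroup H} (hQ : IsSyl 2 Q L) (hw : IsSyl 2 w L)
    (hne : Q ≠ w) {t : H} (ht : orderOf t = 2) (htQ : cj t Q = Q) (htw : cj t w = w)
    (hQ1 : Q ≠ ⊥) : False := by
  have h2p : Fact (Nat.Prime 2) := ⟨Nat.prime_two⟩
  set F : Set (Subgroup H) := {P | IsSyl 2 P L ∧ cj t P = P} with hF
  have hQF : Q ∈ F := ⟨hQ, htQ⟩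
  have hwF : w ∈ F := ⟨hw, htw⟩
  set K : Subgroup H := L ⊓ centralizer ({t} : Set H) with hK
  have hKp : IsPGroup 2 K := (Lead.CIT3.sep_centralizer hS ht).to_le inf_le_right
  have hKF : ∀ k ∈ K, ∀ P ∈ F, cj k P ∈ F := by
    rintro k hk P ⟨hP, htP⟩
    refine ⟨hP.cj_of_mem hk.1, ?_⟩
    have h1 : t * k = k * t := (mem_centralizer_singleton_iff.mp hk.2).symm
    rw [cj_cj, h1, ← cj_cj, htP]
  -- the centralizer in `Q`
  set C : Subgroup H := Q ⊓ centralizer ({t} : Set H) with hC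
  have hCK : C ≤ K := inf_le_inf_right _ hQ.le
  have hCF : F = insert Q ((fun x : H => cj x w) '' (C : Set H)) := by
    ext P
    constructor
    · rintro ⟨hP, htP⟩
      by_cases hPQ : Q = P
      · left; exact hPQ.symm
      · right
        obtain ⟨x, hx, hxt, hxw⟩ := trans_fix hTI hcard hQ hw hP hne hPQ htQ htw htP
        exact ⟨x, ⟨hx, mem_centralizer_singleton_iff.mpr hxt.symm⟩, hxw⟩
    · rintro (rfl | ⟨x, hx, rfl⟩)
      · exact hQF
      · exact hKF x (hCK hx) w hwF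
  have hinj : Set.InjOn (fun x : H => cj x w) (C : Set H) := by
    intro x hx y hy hxy
    have h2 : cj (y⁻¹ * x) w = w := by
      rw [← cj_cj]
      have h3 : cj x w = cj y w := hxy
      rw [h3, cj_inv_cj]
    have h3 := free hTI hQ hw hne (Q.mul_mem (Q.inv_mem hy.1) hx.1) h2
    exact (inv_mul_eq_one.mp h3).symm
  have hFcard : Set.ncard F = Nat.card C + 1 := by
    rw [hCF, Set.ncard_insert_of_notMem]
    · rw [hinj.ncard_image]; rfl
    · rintro ⟨x, hx, hxw⟩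
      apply hne
      have h3 : cj x w = Q := hxw
      rw [cj_eq_iff, cj_eq_self_of_mem (Q.inv_mem hx.1)] at h3
      exact h3.symm
  have hC1 : C ≠ ⊥ := by
    have h1 := H65.PBasic.inf_centralizer_ne_bot (zpowers t) Q
      (IsPGroup.of_card (n := 1) (by rw [Nat.card_zpowers, ht, pow_one])) hQ.isPGroup
      (by rw [zpowers_le]; exact mem_normalizer_iff_cj.mpr htQ) hQ1
    intro h2
    apply h1
    rw [eq_bot_iff, ← h2]
    intro x hx
    exact ⟨hx.1, mem_centralizer_singleton_iff.mpr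
      (mem_centralizer_iff.mp hx.2 t (mem_zpowers t)).symm⟩
  obtain ⟨c, hc, hc1⟩ := (bot_or_exists_ne_one _).resolve_left hC1
  have hw2 : cj c w ∈ F := hKF c (hCK hc) w hwF
  have hcw : cj c w ≠ w := fun h => hc1 (free hTI hQ hw hne hc.1 h)
  have hcQ : Q ≠ cj c w := by
    intro h3
    apply hne
    have h4 := h3.symm
    rw [cj_eq_iff, cj_eq_self_of_mem (Q.inv_mem hc.1)] at h4
    exact h4.symm
  -- transitivity
  have htr : ∀ P ∈ F, ∃ k ∈ K, cj k Q = P := by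
    intro P hP
    have key : ∀ R ∈ F, Q ≠ R → P ≠ R → ∃ k ∈ K, cj k Q = P := by
      intro R hR hQR hPR
      obtain ⟨x, hx, hxt, hxw⟩ := trans_fix hTI hcard hR.1 hQ hP.1 (fun h => hQR h.symm)
        (fun h => hPR h.symm) hR.2 htQ hP.2
      exact ⟨x, ⟨hR.1.le hx, mem_centralizer_singleton_iff.mpr hxt.symm⟩, hxw⟩
    by_cases h1 : P = w
    · exact key (cj c w) hw2 hcQ (by rw [h1]; exact fun h => hcw h.symm)
    · exact key w hwF hne h1
  let A := act K
  have horb : MulAction.orbit K Q = F := by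
    ext P
    constructor
    · rintro ⟨k, rfl⟩
      exact hKF k k.2 Q hQF
    · intro hP
      obtain ⟨k, hk, h1⟩ := htr P hP
      exact ⟨⟨k, hk⟩, h1⟩
  have h1 := MulAction.index_stabilizer K Q
  rw [horb, hFcard] at h1
  have h2 : Nat.card C + 1 ∣ Nat.card K := by
    rw [← h1]; exact Subgroup.index_dvd_card _
  obtain ⟨n, hn⟩ := IsPGroup.iff_card.mp hKp
  rw [hn] at h2
  obtain ⟨m, -, hm⟩ := (Nat.dvd_prime_pow Nat.prime_two).mp h2
  obtain ⟨l, hl⟩ := IsPGroup.iff_card.mp (hQ.isPGroup.to_le (inf_le_left : C ≤ Q))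
  have hl0 : l ≠ 0 := by
    rintro rfl
    rw [pow_zero, Subgroup.card_eq_one] at hl
    exact hC1 hl
  have hm0 : m ≠ 0 := by
    rintro rfl
    have : 0 < Nat.card C := Nat.card_pos
    rw [pow_zero] at hm
    omega
  rw [hl] at hm
  obtain ⟨l', rfl⟩ := Nat.exists_eq_succ_of_ne_zero hl0
  obtain ⟨m', rfl⟩ := Nat.exists_eq_succ_of_ne_zero hm0
  rw [pow_succ, pow_succ] at hm
  omega

end

/-- **M5** overgroups of TI simple groups -/
theorem ti_overgroup {H : Type u} [Group H] [Finite H] (hS : Sep H) (L : Subgroup H) [L.Normal]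
    [IsSimpleGroup L]
    (hna : ∃ a b : L, a * b ≠ b * a) (hev : 2 ∣ Nat.card L)
    (hTI : ∀ P Q : Sylow 2 L, P ≠ Q → (P : Subgroup L) ⊓ Q = ⊥) :
    ∀ P Q : Sylow 2 H, P ≠ Q → (P : Subgroup H) ⊓ Q = ⊥ := by
  have h2p : Fact (Nat.Prime 2) := ⟨Nat.prime_two⟩
  have hSL : Sep L := H28.CITSep.sep_subgroup hS L
  have hTI' : ∀ Q Q' : Subgroup H, IsSyl 2 Q L → IsSyl 2 Q' L → Q ≠ Q' → Q ⊓ Q' = ⊥ :=
    fun Q Q' hQ hQ' hne => ti_rel hTI hQ hQ' hne
  have hcard : ∀ Q : Subgroup H, IsSyl 2 Q L →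
      Set.ncard {Q : Subgroup H | IsSyl 2 Q L} = 1 + Nat.card Q := by
    intro Q hQ
    obtain ⟨P, rfl⟩ := isSyl_iff_exists.mp hQ
    rw [ncard_syl, card_map_subtype]
    exact H83.CITM4.ti_simple hna hSL hev hTI P
  -- every Sylow subgroup of `H` is in `L`
  have key : ∀ T : Subgroup H, IsSyl 2 T ⊤ → T ≤ L := by
    intro T hT
    have hQ : IsSyl 2 (T ⊓ L) L := hT.inf_normal (by
      rw [top_le_iff, Subgroup.normalizer_eq_top_iff]; infer_instance) le_top
    have hQ1 : T ⊓ L ≠ ⊥ := hQ.ne_bot hev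
    by_contra hTL
    -- another Sylow subgroup
    obtain ⟨P₁, P₂, hP₁₂⟩ := H83.CITM4.exists_two_sylow hna hev
    obtain ⟨w, hw, hwQ⟩ : ∃ w, IsSyl 2 w L ∧ T ⊓ L ≠ w := by
      by_contra hcon
      push Not at hcon
      apply hP₁₂
      apply Sylow.ext
      apply Subgroup.map_injective L.subtype_injective
      rw [← hcon _ (isSyl_map P₁), ← hcon _ (isSyl_map P₂)]
    obtain ⟨y, hyT, hyL⟩ := SetLike.not_le_iff_exists.mp hTL
    have hcjL : ∀ g : H, cj g L = L := fun g => by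
      rw [← mem_normalizer_iff_cj, Subgroup.normalizer_eq_top_iff.mpr inferInstance]
      exact mem_top _
    have hsylcj : ∀ (g : H) (P : Subgroup H), IsSyl 2 P L → IsSyl 2 (cj g P) L := by
      intro g P hP
      have h1 := hP.cj g
      rwa [hcjL g] at h1
    have hTQ : ∀ y ∈ T, cj y (T ⊓ L) = T ⊓ L := by
      intro y hy
      rw [cj_inf, cj_eq_self_of_mem hy, hcjL]
    have hyw : T ⊓ L ≠ cj y w := by
      intro h1
      apply hwQ
      have h2 := h1.symm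
      rw [cj_eq_iff, hTQ _ (T.inv_mem hyT)] at h2
      exact h2.symm
    obtain ⟨x, hx, hxw⟩ := trans hTI' hcard hQ (hsylcj y w hw) hw hyw hwQ
    rw [cj_cj] at hxw
    -- the stabilizer of `w` in `T` is not trivial
    have h1 : T ⊓ normalizer (w : Set H) ≠ ⊥ := by
      intro h2
      have h3 : x * y ∈ T ⊓ normalizer (w : Set H) :=
        ⟨T.mul_mem hx.1 hyT, mem_normalizer_iff_cj.mpr hxw⟩
      rw [h2, mem_bot] at h3
      apply hyL
      have h4 : y = x⁻¹ := eq_inv_of_mul_eq_one_right h3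
      rw [h4]; exact L.inv_mem hx.2
    obtain ⟨t, ht, ht2⟩ := Lead.CIT3.exists_inv_of_ne_bot (hT.isPGroup.to_le inf_le_left) h1
    exact no_fix hTI' hcard hS hQ hw hwQ ht2 (hTQ t ht.1) (mem_normalizer_iff_cj.mp ht.2)
      hQ1
  intro P Q hPQ
  have hP := isSyl_top P
  have hQ := isSyl_top Q
  apply hTI' _ _ (hP.of_le_of_le (key _ hP) le_top) (hQ.of_le_of_le (key _ hQ) le_top)
  intro h
  exact hPQ (Sylow.ext h)

end H28.CITM5
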