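import Cfsg.Agent.Lib.H28.PslD8

set_option autoImplicit false
set_option linter.unusedSectionVars false
set_option linter.unusedVariables false
set_option linter.style.haveILetI false

namespace H28.BA2

open Matrix Subgroup H17.FourGrp H17.QuatPair H28.PslD8

local notation "SL2" F => SpecialLinearGroup (Fin 2) F
local notation "PSL2" F => ProjectiveSpecialLinearGroup (Fin 2) F

theorem q79 {F : Type*} [Field F] [Fintype F] (ho : Odd (Fintype.card F)) {t : Matrix.ProjectiveSpecialLinearGroup (Fin 2) F}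
    {V : Subgroup (Matrix.ProjectiveSpecialLinearGroup (Fin 2) F)} (htV : t ∈ V) (ht1 : t ≠ 1) (hV : Nat.card V = 4)
    (hV2 : ∀ v ∈ V, v * v = 1) (hN' : ∀ g, g * t = t * g → g ∈ Subgroup.normalizer (V : Set _)) :
    Fintype.card F ≤ 9 ∧ Nat.card (Subgroup.centralizer ({t} : Set (Matrix.ProjectiveSpecialLinearGroup (Fin 2) F))) ≤ 8 := by
  have ht : t ≠ 1 := ht1
  have ht2 : t * t = 1 := hV2 t htV
  have hVe := hV2
  have hN : centralizer ({t} : Set (PSL2 F)) ≤ normalizer (V : Set (PSL2 F)) :=
    fun g hg => hN' g (mem_centralizer_singleton_iff.1 hg)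
  classical
  haveI hfG : Finite (PSL2 F) := inferInstanceAs (Finite (_ ⧸ _))
  have h2 : (2 : F) ≠ 0 := H45.SL2.two_ne_zero_of_odd ho
  obtain ⟨v, hvV, hv1, hvt⟩ : ∃ v ∈ V, v ≠ 1 ∧ v ≠ t := by
    by_contra hcon
    push Not at hcon
    have hsub : (V : Set (PSL2 F)) ⊆ {1, t} := by
      intro u hu
      by_cases h1 : u = 1
      · left; exact h1
      · right; exact hcon u hu h1
    have h3 := Set.ncard_le_ncard hsub (Set.toFinite _)
    have h4 : ({1, t} : Set (PSL2 F)).ncard ≤ 2 := (Set.ncard_insert_le _ _).trans (by rw [Set.ncard_singleton])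
    have h5 : (V : Set (PSL2 F)).ncard = 4 := hV
    omega
  have hcm : ∀ u ∈ V, ∀ u' ∈ V, u * u' = u' * u := by
    intro u hu u' hu'
    have h1 := hVe _ (mul_mem hu hu')
    have e1 : u⁻¹ = u := inv_eq_of_mul_eq_one_left (hVe u hu)
    have e2 : u'⁻¹ = u' := inv_eq_of_mul_eq_one_left (hVe u' hu')
    have e3 : (u * u')⁻¹ = u * u' := inv_eq_of_mul_eq_one_left h1
    rw [_root_.mul_inv_rev, e1, e2] at e3
    exact e3.symm
  have hp : IsPair t v := ⟨ht, hv1, Ne.symm hvt, ht2, hVe v hvV, hcm t htV v hvV⟩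
  -- the centralizer of `t` has at most eight elements
  have hcard : Nat.card (centralizer ({t} : Set (PSL2 F))) ≤ 8 := by
    have key : ∃ g₀ : PSL2 F, ∀ g ∈ centralizer ({t} : Set (PSL2 F)), g ∈ ({1, t, v, t * v, g₀, g₀ * t, g₀ * v, g₀ * (t * v)} : Finset (PSL2 F)) := by
      by_cases hex : ∃ g₀ ∈ centralizer ({t} : Set (PSL2 F)), g₀ * v * g₀⁻¹ ≠ v
      · obtain ⟨g₀, hg₀, hg₀v⟩ := hex
        refine ⟨g₀, ?_⟩
        have hform : ∀ g ∈ centralizer ({t} : Set (PSL2 F)), g * v * g⁻¹ = v ∨ g * v * g⁻¹ = t * v := by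
          intro g hg
          have hgt : g * t = t * g := mem_centralizer_singleton_iff.1 hg
          have hgV : g * v * g⁻¹ ∈ V := (mem_normalizer_iff.1 (hN hg) v).1 hvV
          rcases cent_pair h2 hp (hcm _ hgV _ htV) (hcm _ hgV _ hvV) with h1 | h1 | h1 | h1
          · exfalso; apply hv1
            have : v = g⁻¹ * (g * v * g⁻¹) * g := by group
            rw [this, h1]; group
          · exfalso; apply hvt
            have : v = g⁻¹ * (g * v * g⁻¹) * g := by group
            rw [this, h1, mul_assoc, ← hgt]; group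
          · left; exact h1
          · right; exact h1
        intro g hg
        have hgt : g * t = t * g := mem_centralizer_singleton_iff.1 hg
        have hg₀t : g₀ * t = t * g₀ := mem_centralizer_singleton_iff.1 hg₀
        simp only [Finset.mem_insert, Finset.mem_singleton]
        rcases hform g hg with h1 | h1
        · have hgv : g * v = v * g := mul_inv_eq_iff_eq_mul.1 h1
          rcases cent_pair h2 hp hgt hgv with h3 | h3 | h3 | h3 <;> tauto
        · have h0 : g₀ * v * g₀⁻¹ = t * v := (hform g₀ hg₀).resolve_left hg₀v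
          have h4 : (g₀⁻¹ * g) * t = t * (g₀⁻¹ * g) := by
            have : g₀⁻¹ * t = t * g₀⁻¹ := by
              rw [inv_mul_eq_iff_eq_mul, ← mul_assoc, hg₀t]; group
            rw [mul_assoc, hgt, ← mul_assoc, this, mul_assoc]
          have h5 : (g₀⁻¹ * g) * v = v * (g₀⁻¹ * g) := by
            calc (g₀⁻¹ * g) * v = g₀⁻¹ * (g * v * g⁻¹) * g := by group
              _ = g₀⁻¹ * (g₀ * v * g₀⁻¹) * g := by rw [h1, h0]
              _ = _ := by group
          have h6 : g = g₀ * (g₀⁻¹ * g) := by group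
          rcases cent_pair h2 hp h4 h5 with h3 | h3 | h3 | h3 <;> rw [h3] at h6
          · rw [mul_one] at h6; tauto
          · tauto
          · tauto
          · tauto
      · push Not at hex
        refine ⟨1, ?_⟩
        intro g hg
        have hgt : g * t = t * g := mem_centralizer_singleton_iff.1 hg
        have hgv : g * v = v * g := mul_inv_eq_iff_eq_mul.1 (hex g hg)
        simp only [Finset.mem_insert, Finset.mem_singleton]
        rcases cent_pair h2 hp hgt hgv with h3 | h3 | h3 | h3 <;> tauto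
    obtain ⟨g₀, hg₀⟩ := key
    have h3 : ((centralizer ({t} : Set (PSL2 F)) : Subgroup (PSL2 F)) : Set (PSL2 F)) ⊆
        (({1, t, v, t * v, g₀, g₀ * t, g₀ * v, g₀ * (t * v)} : Finset (PSL2 F)) : Set (PSL2 F)) := by
      intro g hg
      exact Finset.mem_coe.2 (hg₀ g hg)
    have h4 := Set.ncard_le_ncard h3 (Set.toFinite _)
    rw [Set.ncard_coe_finset] at h4
    have h5 : ({1, t, v, t * v, g₀, g₀ * t, g₀ * v, g₀ * (t * v)} : Finset (PSL2 F)).card ≤ 8 := by
      refine (Finset.card_insert_le _ _).trans ?_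
      refine Nat.succ_le_succ ?_
      refine (Finset.card_insert_le _ _).trans ?_
      refine Nat.succ_le_succ ?_
      refine (Finset.card_insert_le _ _).trans ?_
      refine Nat.succ_le_succ ?_
      refine (Finset.card_insert_le _ _).trans ?_
      refine Nat.succ_le_succ ?_
      refine (Finset.card_insert_le _ _).trans ?_
      refine Nat.succ_le_succ ?_
      refine (Finset.card_insert_le _ _).trans ?_
      refine Nat.succ_le_succ ?_
      exact Finset.card_le_two
    exact h4.trans h5
  obtain ⟨hc1, hc3⟩ := card_cent ho ht2 ht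
  refine ⟨?_, hcard⟩
  have hm : Fintype.card F % 4 = 1 ∨ Fintype.card F % 4 = 3 := by
    obtain ⟨k, hk⟩ := ho
    omega
  rcases hm with h6 | h6
  · have := hc1 h6; omega
  · have := hc3 h6; omega

end H28.BA2
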