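import Cfsg.Agent.Lib.H96.FrDef

set_option autoImplicit false
set_option linter.unusedSectionVars false
open Matrix H96.Fr

namespace H28.FrP4

variable {ι F : Type*} [Fintype ι] [DecidableEq ι] [Field F]
  {K : Subgroup ((ι → F) ≃ₗ[F] (ι → F))}

lemma dot_e (x : ι → F) (i : ι) : x ⬝ᵥ e i = x i := by
  simp [e]

lemma e_dot (x : ι → F) (i : ι) : e i ⬝ᵥ x = x i := by
  simp [e]

lemma e_self (i : ι) : (e i : ι → F) i = 1 := by simp [e]

lemma e_ne {i j : ι} (h : j ≠ i) : (e i : ι → F) j = 0 := by simp [e, h]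

lemma ext_e {g h : (ι → F) ≃ₗ[F] (ι → F)} (H : ∀ i, g (e i) = h (e i)) : g = h := by
  apply LinearEquiv.toLinearMap_injective
  apply (Pi.basisFun F ι).ext
  intro i
  simpa [e, Pi.basisFun_apply] using H i

lemma sg_e (i j n : ι) : sg i j (e n : ι → F) = if n = i ∨ n = j then - e n else e n := by
  funext k
  rw [sg_apply]
  by_cases hk : k = n
  · subst hk
    by_cases h : k = i ∨ k = j <;> simp [h]
  · have h0 : (e n : ι → F) k = 0 := e_ne hk
    by_cases h : n = i ∨ n = j <;> by_cases h' : k = i ∨ k = j <;> simp [h, h', h0]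

lemma sg_e_in {i j n : ι} (h : n = i ∨ n = j) : sg i j (e n : ι → F) = - e n := by
  rw [sg_e, if_pos h]

lemma sg_e_out {i j n : ι} (h : n ≠ i) (h' : n ≠ j) : sg i j (e n : ι → F) = e n := by
  rw [sg_e, if_neg (by tauto)]

lemma sg_sg' (i j : ι) : (sg i j : (ι → F) ≃ₗ[F] (ι → F)) * sg i j = 1 := by
  apply LinearEquiv.ext
  intro x
  exact sgm_sgm i j x

lemma e_eq {i j : ι} (h : (e i : ι → F) = e j) : i = j := by
  by_contra hne
  have := congrFun h i
  rw [e_self, e_ne hne] at this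
  exact one_ne_zero this

lemma e_eq_neg {i j : ι} (h : (e i : ι → F) = - e j) : i = j := by
  by_contra hne
  have := congrFun h i
  rw [e_self, Pi.neg_apply, e_ne hne, neg_zero] at this
  exact one_ne_zero this

/-- `g` is monomial with permutation `σ` -/
def P (g : (ι → F) ≃ₗ[F] (ι → F)) (σ : Equiv.Perm ι) : Prop :=
  ∀ i, g (e i) = e (σ i) ∨ g (e i) = - e (σ i)

lemma P_exists {g : (ι → F) ≃ₗ[F] (ι → F)} (h : Mon g) : ∃ σ, P g σ := by
  choose f hf using h
  have hinj : Function.Injective f := by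
    intro a b hab
    rcases hf a with ha | ha <;> rcases hf b with hb | hb
    · exact e_eq (g.injective (by rw [ha, hb, hab]))
    · exact e_eq_neg (F := F) (g.injective (by rw [ha, map_neg, hb, hab, neg_neg]))
    · exact e_eq_neg (F := F) (g.injective (by rw [ha, map_neg, hb, hab]))
    · exact e_eq (g.injective (by rw [ha, hb, hab]))
  exact ⟨Equiv.ofBijective f (Finite.injective_iff_bijective.mp hinj), hf⟩

lemma P_mul {g h : (ι → F) ≃ₗ[F] (ι → F)} {σ τ : Equiv.Perm ι} (hg : P g σ) (hh : P h τ) :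
    P (g * h) (σ * τ) := by
  intro i
  rw [LinearEquiv.mul_apply, Equiv.Perm.mul_apply]
  rcases hh i with h1 | h1 <;> rcases hg (τ i) with h2 | h2 <;> rw [h1] <;>
    simp [h2]

lemma P_one : P (1 : (ι → F) ≃ₗ[F] (ι → F)) 1 := fun i => Or.inl rfl

lemma P_uniq {g : (ι → F) ≃ₗ[F] (ι → F)} {σ τ : Equiv.Perm ι} (hg : P g σ) (hh : P g τ) :
    σ = τ := by
  ext i
  rcases hg i with h1 | h1 <;> rcases hh i with h2 | h2
  · exact e_eq (F := F) (by rw [← h1, ← h2])
  · exact e_eq_neg (F := F) (by rw [← h1, ← h2])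
  · exact (e_eq_neg (F := F) (by rw [← h1, ← h2])).symm
  · exact e_eq (F := F) (neg_injective (by rw [← h1, ← h2]))

/-- a permutation of five points preserving a pair, of order dividing 4, has order dividing 2 -/
lemma perm_five {σ : Equiv.Perm ι} (hN : Fintype.card ι = 5) {i j : ι} (hij : i ≠ j)
    (h1 : σ i = i ∨ σ i = j) (h2 : σ j = i ∨ σ j = j) (h4 : σ * σ * (σ * σ) = 1) : σ * σ = 1 := by
  obtain ⟨f⟩ : Nonempty (ι ≃ Fin 5) := ⟨Fintype.equivFinOfCardEq hN⟩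
  have key : ∀ τ : Equiv.Perm (Fin 5), τ * τ * (τ * τ) = 1 → (∃ a b : Fin 5, a ≠ b ∧ (τ a = a ∨ τ a = b) ∧ (τ b = a ∨ τ b = b)) → τ * τ = 1 := by
    decide +kernel
  have h3 := key (f.permCongr σ) ?_ ?_
  · have : f.permCongr (σ * σ) = f.permCongr 1 := by
      rw [Equiv.permCongr_mul, h3]; ext; simp
    exact f.permCongr.injective this
  · rw [← Equiv.permCongr_mul, ← Equiv.permCongr_mul, h4]; ext; simp
  · refine ⟨f i, f j, fun h => hij (f.injective h), ?_, ?_⟩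
    · simpa [Equiv.permCongr_apply] using h1
    · simpa [Equiv.permCongr_apply] using h2

lemma sg_apply' {i j : ι} (hij : i ≠ j) (x : ι → F) :
    sg i j x = x - (2 * x i) • e i - (2 * x j) • e j := by
  funext k
  rw [sg_apply]
  by_cases hi : k = i
  · subst hi
    have : (e j : ι → F) k = 0 := e_ne hij
    simp [this, e_self]; ring
  · by_cases hj : k = j
    · subst hj
      have : (e i : ι → F) k = 0 := e_ne hi
      simp [this, e_self]; ring
    · have h1 : (e i : ι → F) k = 0 := e_ne hi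
      have h2 : (e j : ι → F) k = 0 := e_ne hj
      simp [h1, h2, hi, hj]

lemma two_mul_zero (h2 : (2:F) ≠ 0) {a : F} (h : -a = a) : a = 0 := by
  have : 2 * a = 0 := by linear_combination -h
  exact (mul_eq_zero.mp this).resolve_left h2

/-- the commutation transfer -/
lemma comm_transfer {k x d t : (ι → F) ≃ₗ[F] (ι → F)} (ht : t = k * d * k⁻¹) (h : x * t = t * x) :
    (k⁻¹ * x * k) * d = d * (k⁻¹ * x * k) := by
  have hd : d = k⁻¹ * t * k := by rw [ht]; group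
  have h1 : x * t * k = t * x * k := by rw [h]
  rw [hd]
  calc k⁻¹ * x * k * (k⁻¹ * t * k) = k⁻¹ * (x * t * k) := by group
    _ = k⁻¹ * (t * x * k) := by rw [h1]
    _ = _ := by group

/-- a monomial commuting with `sg i j` permutes `{i, j}` -/
lemma P_comm (h2 : (2:F) ≠ 0) {g : (ι → F) ≃ₗ[F] (ι → F)} {σ : Equiv.Perm ι} (hg : P g σ) {i j : ι}
    (hc : g * sg i j = sg i j * g) : (σ i = i ∨ σ i = j) ∧ (σ j = i ∨ σ j = j) := by
  have key : ∀ n, (n = i ∨ n = j) → (σ n = i ∨ σ n = j) := by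
    intro n hn
    by_contra hne
    push Not at hne
    have h1 := congrArg (fun f : (ι → F) ≃ₗ[F] (ι → F) => f (e n)) hc
    simp only [LinearEquiv.mul_apply] at h1
    rw [sg_e_in hn, map_neg] at h1
    rcases hg n with h | h
    · rw [h, sg_e_out hne.1 hne.2] at h1
      have h3 := congrFun h1 (σ n)
      simp only [Pi.neg_apply, e_self] at h3
      exact one_ne_zero (two_mul_zero h2 h3)
    · rw [h, map_neg, sg_e_out hne.1 hne.2, neg_neg] at h1
      have h3 := congrFun h1 (σ n)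
      simp only [Pi.neg_apply, e_self] at h3
      exact one_ne_zero (two_mul_zero h2 h3.symm)
  exact ⟨key i (Or.inl rfl), key j (Or.inr rfl)⟩

/-- type (c) -/
theorem type_c (D : Dat K) (h2 : (2:F) ≠ 0) (hc : C2 K) (hN : Fintype.card ι = 5)
    {k : (ι → F) ≃ₗ[F] (ι → F)} (hk : k ∈ K) {i j : ι} (hij : i ≠ j)
    {a₁ a₂ a₃ a₄ a₅ : ι} (hnd : [a₁, a₂, a₃, a₄, a₅].Nodup) (hall : ∀ n, n = a₁ ∨ n = a₂ ∨ n = a₃ ∨ n = a₄ ∨ n = a₅)
    {ε ε' : F} (hε : ε = 1 ∨ ε = -1) (hε' : ε' = 1 ∨ ε' = -1)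
    {t : (ι → F) ≃ₗ[F] (ι → F)} (ht : t = k * sg i j * k⁻¹)
    (h12 : t (e a₁) = ε • e a₂) (h21 : t (e a₂) = ε • e a₁)
    (h34 : t (e a₃) = ε' • e a₄) (h43 : t (e a₄) = ε' • e a₃)
    (h55 : t (e a₅) = e a₅) :
    ∃ l, k (e l) = e a₅ ∨ k (e l) = - e a₅ := by
  simp only [List.nodup_cons, List.mem_cons, List.not_mem_nil, or_false, not_or, List.nodup_nil, and_true, not_false_eq_true] at hnd
  obtain ⟨⟨n12, n13, n14, n15⟩, ⟨n23, n24, n25⟩, ⟨n34, n35⟩, n45⟩ := hnd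
  -- the element `α`
  obtain ⟨α, hαK, hα1, hα2, hα3, hα4, hα5⟩ : ∃ α ∈ K, α (e a₁) = (e a₃ : ι → F) ∧ α (e a₂) = (ε * ε') • e a₄ ∧
      α (e a₃) = e a₁ ∧ α (e a₄) = (ε * ε') • e a₂ ∧ α (e a₅) = e a₅ := by
    have hσ : Equiv.Perm.sign (Equiv.swap a₁ a₃ * Equiv.swap a₂ a₄) = 1 := by
      rw [Equiv.Perm.sign_mul, Equiv.Perm.sign_swap n13, Equiv.Perm.sign_swap n24]; rfl
    have hp := D.pm _ hσ
    have s1 : (Equiv.swap a₁ a₃ * Equiv.swap a₂ a₄) a₁ = a₃ := by
      rw [Equiv.Perm.mul_apply, Equiv.swap_apply_of_ne_of_ne n12 n14, Equiv.swap_apply_left]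
    have s2 : (Equiv.swap a₁ a₃ * Equiv.swap a₂ a₄) a₂ = a₄ := by
      rw [Equiv.Perm.mul_apply, Equiv.swap_apply_left, Equiv.swap_apply_of_ne_of_ne (Ne.symm n14) (Ne.symm n34)]
    have s3 : (Equiv.swap a₁ a₃ * Equiv.swap a₂ a₄) a₃ = a₁ := by
      rw [Equiv.Perm.mul_apply, Equiv.swap_apply_of_ne_of_ne (Ne.symm n23) n34, Equiv.swap_apply_right]
    have s4 : (Equiv.swap a₁ a₃ * Equiv.swap a₂ a₄) a₄ = a₂ := by
      rw [Equiv.Perm.mul_apply, Equiv.swap_apply_right, Equiv.swap_apply_of_ne_of_ne (Ne.symm n12) n23]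
    have s5 : (Equiv.swap a₁ a₃ * Equiv.swap a₂ a₄) a₅ = a₅ := by
      rw [Equiv.Perm.mul_apply, Equiv.swap_apply_of_ne_of_ne (Ne.symm n25) (Ne.symm n45), Equiv.swap_apply_of_ne_of_ne (Ne.symm n15) (Ne.symm n35)]
    have hee : ε * ε' = 1 ∨ ε * ε' = -1 := by
      rcases hε with rfl | rfl <;> rcases hε' with rfl | rfl <;> simp
    rcases hee with hee | hee
    · refine ⟨pm (Equiv.swap a₁ a₃ * Equiv.swap a₂ a₄), hp, ?_, ?_, ?_, ?_, ?_⟩ <;> rw [pm_e]
      · rw [s1]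
      · rw [s2, hee, one_smul]
      · rw [s3]
      · rw [s4, hee, one_smul]
      · rw [s5]
    · refine ⟨pm (Equiv.swap a₁ a₃ * Equiv.swap a₂ a₄) * sg a₂ a₄, mul_mem hp (D.sg _ _ n24), ?_, ?_, ?_, ?_, ?_⟩ <;> rw [LinearEquiv.mul_apply]
      · rw [sg_e_out n12 n14, pm_e, s1]
      · rw [sg_e_in (Or.inl rfl), map_neg, pm_e, s2, hee, neg_smul, one_smul]
      · rw [sg_e_out (Ne.symm n23) n34, pm_e, s3]
      · rw [sg_e_in (Or.inr rfl), map_neg, pm_e, s4, hee, neg_smul, one_smul]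
      · rw [sg_e_out (Ne.symm n25) (Ne.symm n45), pm_e, s5]
  have hε2 : ε * ε = 1 := by rcases hε with rfl | rfl <;> simp
  have hε2' : ε' * ε' = 1 := by rcases hε' with rfl | rfl <;> simp
  have hαt : α * t = t * α := by
    apply ext_e
    intro n
    rw [LinearEquiv.mul_apply, LinearEquiv.mul_apply]
    rcases hall n with rfl | rfl | rfl | rfl | rfl
    · rw [h12, hα1, h34, map_smul, hα2, smul_smul]; congr 1; linear_combination ε' * hε2
    · rw [h21, hα2, map_smul, map_smul, h43, hα1, smul_smul]; congr 1; linear_combination -ε * hε2'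
    · rw [h34, hα3, map_smul, hα4, h12, smul_smul]; congr 1; linear_combination ε * hε2'
    · rw [h43, hα4, map_smul, map_smul, h21, hα3, smul_smul]; congr 1; linear_combination -ε' * hε2
    · rw [h55, hα5, h55]
  have hdt : sg a₁ a₂ * t = t * sg a₁ a₂ := by
    apply ext_e
    intro n
    rw [LinearEquiv.mul_apply, LinearEquiv.mul_apply]
    rcases hall n with rfl | rfl | rfl | rfl | rfl
    · rw [h12, map_smul, sg_e_in (Or.inr rfl), sg_e_in (Or.inl rfl), map_neg, h12, smul_neg]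
    · rw [h21, map_smul, sg_e_in (Or.inr rfl), sg_e_in (Or.inl rfl), map_neg, h21, smul_neg]
    · rw [h34, map_smul, sg_e_out (Ne.symm n14) (Ne.symm n24), sg_e_out (Ne.symm n13) (Ne.symm n23), h34]
    · rw [h43, map_smul, sg_e_out (Ne.symm n14) (Ne.symm n24), sg_e_out (Ne.symm n13) (Ne.symm n23), h43]
    · rw [h55, sg_e_out (Ne.symm n15) (Ne.symm n25), h55]
  have hα2' : α * α = 1 := by
    apply ext_e
    intro n
    have h4 : (ε * ε') * (ε * ε') = 1 := by linear_combination hε2' + ε' * ε' * hε2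
    rw [LinearEquiv.mul_apply]
    rcases hall n with rfl | rfl | rfl | rfl | rfl
    · rw [hα1, hα3]; rfl
    · rw [hα2, map_smul, hα4, smul_smul, h4, one_smul]; rfl
    · rw [hα3, hα1]; rfl
    · rw [hα4, map_smul, hα2, smul_smul, h4, one_smul]; rfl
    · rw [hα5, hα5]; rfl
  have hcomm : α * sg a₁ a₂ * (α * sg a₁ a₂) = sg a₁ a₂ * sg a₃ a₄ := by
    apply ext_e
    intro n
    have h4 : (ε * ε') * (ε * ε') = 1 := by linear_combination hε2' + ε' * ε' * hε2
    simp only [LinearEquiv.mul_apply]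
    rcases hall n with rfl | rfl | rfl | rfl | rfl
    · rw [sg_e_in (Or.inl rfl), map_neg, hα1, map_neg, sg_e_out (Ne.symm n13) (Ne.symm n23), map_neg, hα3,
        sg_e_out n13 n14, sg_e_in (Or.inl rfl)]
    · rw [sg_e_in (Or.inr rfl), map_neg, hα2, map_neg, map_smul, sg_e_out (Ne.symm n14) (Ne.symm n24), map_neg, map_smul, hα4,
        smul_smul, h4, one_smul, sg_e_out n23 n24, sg_e_in (Or.inr rfl)]
    · rw [sg_e_out (Ne.symm n13) (Ne.symm n23), hα3, sg_e_in (Or.inl rfl), map_neg, hα1,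
        sg_e_in (Or.inl rfl), map_neg, sg_e_out (Ne.symm n13) (Ne.symm n23)]
    · rw [sg_e_out (Ne.symm n14) (Ne.symm n24), hα4, map_smul, sg_e_in (Or.inr rfl), map_smul, map_neg, hα2, smul_neg, smul_smul, h4, one_smul,
        sg_e_in (Or.inr rfl), map_neg, sg_e_out (Ne.symm n14) (Ne.symm n24)]
    · rw [sg_e_out (Ne.symm n15) (Ne.symm n25), hα5, sg_e_out (Ne.symm n15) (Ne.symm n25), hα5,
        sg_e_out (Ne.symm n35) (Ne.symm n45), sg_e_out (Ne.symm n15) (Ne.symm n25)]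
  have hca := comm_transfer (k := k) ht hαt
  have hcb := comm_transfer (k := k) ht hdt
  have haK : k⁻¹ * α * k ∈ K := mul_mem (mul_mem (inv_mem hk) hαK) hk
  have hbK : k⁻¹ * sg a₁ a₂ * k ∈ K := mul_mem (mul_mem (inv_mem hk) (D.sg _ _ n12)) hk
  obtain ⟨A, hA⟩ := P_exists (hc _ haK i j hij hca)
  obtain ⟨B, hB⟩ := P_exists (hc _ hbK i j hij hcb)
  have hAB := P_mul hA hB
  have hABc : (k⁻¹ * α * k) * (k⁻¹ * sg a₁ a₂ * k) * sg i j = sg i j * ((k⁻¹ * α * k) * (k⁻¹ * sg a₁ a₂ * k)) := by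
    rw [mul_assoc, hcb, ← mul_assoc, hca, mul_assoc]
  obtain ⟨q1, q2⟩ := P_comm h2 hAB hABc
  have hC := P_mul hAB hAB
  have hCC := P_mul hC hC
  have e1 : (k⁻¹ * α * k) * (k⁻¹ * sg a₁ a₂ * k) * ((k⁻¹ * α * k) * (k⁻¹ * sg a₁ a₂ * k)) = k⁻¹ * (sg a₁ a₂ * sg a₃ a₄) * k := by
    rw [← hcomm]; group
  have e2 : k⁻¹ * (sg a₁ a₂ * sg a₃ a₄) * k * (k⁻¹ * (sg a₁ a₂ * sg a₃ a₄) * k) = 1 := by
    have : sg a₁ a₂ * sg a₃ a₄ * (sg a₁ a₂ * sg a₃ a₄) = (1 : (ι → F) ≃ₗ[F] (ι → F)) := by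
      apply ext_e
      intro n
      simp only [LinearEquiv.mul_apply]
      by_cases h1 : n = a₁ ∨ n = a₂ <;> by_cases h3 : n = a₃ ∨ n = a₄ <;> simp [sg_e, h1, h3]
    calc k⁻¹ * (sg a₁ a₂ * sg a₃ a₄) * k * (k⁻¹ * (sg a₁ a₂ * sg a₃ a₄) * k) = k⁻¹ * (sg a₁ a₂ * sg a₃ a₄ * (sg a₁ a₂ * sg a₃ a₄)) * k := by group
      _ = 1 := by rw [this]; group
  rw [e1] at hC hCC
  rw [e2] at hCC
  have h4 := P_uniq hCC P_one
  have h5 := perm_five hN hij q1 q2 h4
  rw [h5] at hC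
  -- `c := k⁻¹ d k` is diagonal
  set c : (ι → F) ≃ₗ[F] (ι → F) := k⁻¹ * (sg a₁ a₂ * sg a₃ a₄) * k with hcd
  have hkc : ∀ l, c (e l) = e l ∨ c (e l) = - e l := hC
  set g := k⁻¹ (e a₅) with hg
  have hkg : k g = e a₅ := by
    rw [hg, ← LinearEquiv.mul_apply, mul_inv_cancel]; rfl
  have hgg : g ⬝ᵥ g = 1 := by
    rw [hg, D.iso _ (inv_mem hk), e_dot, e_self]
  obtain ⟨l, hl⟩ : ∃ l, g l ≠ 0 := by
    by_contra hne
    push Not at hne
    have : g = 0 := funext hne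
    rw [this] at hgg
    simp at hgg
  -- the dot product of `c (e l)` with `g`
  have hcg : c g = g := by
    rw [hcd, LinearEquiv.mul_apply, LinearEquiv.mul_apply, hkg, LinearEquiv.mul_apply,
      sg_e_out (Ne.symm n35) (Ne.symm n45), sg_e_out (Ne.symm n15) (Ne.symm n25)]
  have hcK : c ∈ K :=
    mul_mem (mul_mem (inv_mem hk) (mul_mem (D.sg _ _ n12) (D.sg _ _ n34))) hk
  have hcl : c (e l) = e l := by
    rcases hkc l with h | h
    · exact h
    · exfalso
      have h6 := D.iso _ hcK g (e l)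
      rw [hcg, h, dotProduct_neg, dot_e] at h6
      exact hl (two_mul_zero h2 h6)
  have h7 : sg a₁ a₂ (sg a₃ a₄ (k (e l))) = k (e l) := by
    have h71 : k * c = sg a₁ a₂ * sg a₃ a₄ * k := by rw [hcd]; group
    have h72 := congrArg (fun f : (ι → F) ≃ₗ[F] (ι → F) => f (e l)) h71
    simp only [LinearEquiv.mul_apply] at h72
    rw [hcl] at h72
    exact h72.symm
  have h8 : ∀ n, n ≠ a₅ → k (e l) n = 0 := by
    intro n hn
    have := congrFun h7 n
    rw [sg_apply, sg_apply] at this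
    apply two_mul_zero h2
    rcases hall n with rfl | rfl | rfl | rfl | rfl
    · simpa [n13, n14] using this
    · simpa [n23, n24] using this
    · simpa [Ne.symm n13, Ne.symm n23] using this
    · simpa [Ne.symm n14, Ne.symm n24] using this
    · exact absurd rfl hn
  have h9 : k (e l) = k (e l) a₅ • e a₅ := by
    funext n
    by_cases hn : n = a₅
    · subst hn; simp [e_self]
    · rw [h8 n hn, Pi.smul_apply, e_ne hn, smul_zero]
  have h10 : k (e l) a₅ * k (e l) a₅ = 1 := by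
    have := D.iso _ hk (e l) (e l)
    rw [e_dot, e_self, h9] at this
    simpa [dot_e, e_self] using this
  refine ⟨l, ?_⟩
  rcases mul_self_eq_one_iff.mp h10 with h | h
  · left; rw [h9, h, one_smul]
  · right; rw [h9, h, neg_smul, one_smul]

end H28.FrP4
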