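import Mathlib
import Cfsg.Prelude.Def_CaseTheorems
import Cfsg.Agent.S2540
import Cfsg.Agent.Lib.H26.Quasisimple
import Cfsg.Agent.Lib.H1.Cores

/-!
`GL(n, F)` is of component type in odd characteristic.
-/

set_option autoImplicit false

open Matrix

namespace H28.GLComp

variable {F : Type*} [Field F] [Fintype F]

theorem sl_quasisimple (m : ℕ) (hm : 2 ≤ m) (hex : ¬ (m = 2 ∧ Fintype.card F ≤ 3)) :
    Cfsg.IsQuasisimple (SpecialLinearGroup (Fin m) F) := by
  obtain ⟨h1, h2⟩ := Cfsg.Agent.S2540.perfect_simple (F := F) m hm hex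
  exact ⟨⟨h1⟩, h2⟩

variable {m n : ℕ} (e : Unit ⊕ Fin m ≃ Fin n)

/-- block matrices -/
noncomputable def blk (a : F) (D : Matrix (Fin m) (Fin m) F) : Matrix (Fin n) (Fin n) F :=
  Matrix.reindexAlgEquiv F F e (fromBlocks (a • (1 : Matrix Unit Unit F)) 0 0 D)

omit [Fintype F] in
theorem blk_mul (a b : F) (D E : Matrix (Fin m) (Fin m) F) :
    blk e a D * blk e b E = blk e (a * b) (D * E) := by
  unfold blk
  rw [← map_mul, fromBlocks_multiply]
  simp [smul_smul, mul_comm]

omit [Fintype F] in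
theorem blk_one : blk e (1 : F) 1 = 1 := by
  unfold blk
  rw [one_smul, fromBlocks_one, map_one]

omit [Fintype F] in
theorem blk_injective {a b : F} {D E : Matrix (Fin m) (Fin m) F} (h : blk e a D = blk e b E) :
    a = b ∧ D = E := by
  unfold blk at h
  have h1 := (Matrix.reindexAlgEquiv F F e).injective h
  rw [fromBlocks_inj] at h1
  refine ⟨?_, h1.2.2.2⟩
  have := congrFun (congrFun h1.1 ()) ()
  simpa using this

/-- the embedding of `SL_m` -/
noncomputable def emb : SpecialLinearGroup (Fin m) F →* GL (Fin n) F :=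
  MonoidHom.toHomUnits
    { toFun := fun s => blk e 1 s.1
      map_one' := blk_one e
      map_mul' := fun s t => by rw [blk_mul, mul_one]; rfl }

omit [Fintype F] in
theorem coe_emb (s : SpecialLinearGroup (Fin m) F) :
    ((emb e s : GL (Fin n) F) : Matrix (Fin n) (Fin n) F) = blk e 1 s.1 := rfl

/-- the involution -/
noncomputable def inv : GL (Fin n) F where
  val := blk e (-1) 1
  inv := blk e (-1) 1
  val_inv := by rw [blk_mul]; simp [blk_one]
  inv_val := by rw [blk_mul]; simp [blk_one]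

omit [Fintype F] in
theorem coe_inv : ((inv e : GL (Fin n) F) : Matrix (Fin n) (Fin n) F) = blk e (-1) 1 := rfl

omit [Fintype F] in
/-- matrices commuting with the involution are block matrices -/
theorem exists_blk (h2 : (2 : F) ≠ 0) {g : Matrix (Fin n) (Fin n) F}
    (h : g * blk e (-1) 1 = blk e (-1) 1 * g) : ∃ a D, g = blk e a D := by
  set Φ := Matrix.reindexAlgEquiv F F e with hΦ
  obtain ⟨g', rfl⟩ := Φ.surjective g
  have h1 : g' * fromBlocks ((-1 : F) • (1 : Matrix Unit Unit F)) 0 0 1 =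
      fromBlocks ((-1 : F) • (1 : Matrix Unit Unit F)) 0 0 1 * g' := by
    apply Φ.injective
    rw [map_mul, map_mul]; exact h
  rw [← fromBlocks_toBlocks g', fromBlocks_multiply, fromBlocks_multiply, fromBlocks_inj] at h1
  obtain ⟨-, h3, h4, -⟩ := h1
  simp only [Matrix.mul_zero, Matrix.mul_one, zero_add, Matrix.one_mul, neg_smul,
    one_smul, Matrix.zero_mul, add_zero, Matrix.neg_mul, Matrix.mul_neg] at h3 h4
  have h5 : g'.toBlocks₁₂ = 0 := by
    ext i j
    have := congrFun (congrFun h3 i) j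
    rw [Matrix.neg_apply] at this
    have h6 : (2 : F) * g'.toBlocks₁₂ i j = 0 := by rw [two_mul]; nth_rw 1 [this]; ring
    exact (mul_eq_zero.mp h6).resolve_left h2
  have h6 : g'.toBlocks₂₁ = 0 := by
    ext i j
    have := congrFun (congrFun h4 i) j
    rw [Matrix.neg_apply] at this
    have h6 : (2 : F) * g'.toBlocks₂₁ i j = 0 := by rw [two_mul]; nth_rw 1 [← this]; ring
    exact (mul_eq_zero.mp h6).resolve_left h2
  refine ⟨g'.toBlocks₁₁ () (), g'.toBlocks₂₂, ?_⟩
  unfold blk
  congr 1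
  conv_lhs => rw [← fromBlocks_toBlocks g', h5, h6]
  congr 1
  ext i j
  simp

omit [Fintype F] in
theorem emb_comm (s : SpecialLinearGroup (Fin m) F) : emb e s ∈ Subgroup.centralizer ({inv e} : Set (GL (Fin n) F)) := by
  rw [Subgroup.mem_centralizer_singleton_iff]
  apply Units.ext
  rw [Units.val_mul, Units.val_mul, coe_emb, coe_inv, blk_mul, blk_mul]
  simp

omit [Fintype F] in
/-- `SL_m` is normal in the centralizer -/
theorem conj_emb (h2 : (2 : F) ≠ 0) {g : GL (Fin n) F}
    (hg : g ∈ Subgroup.centralizer ({inv e} : Set (GL (Fin n) F))) (s : SpecialLinearGroup (Fin m) F) :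
    ∃ s', g * emb e s * g⁻¹ = emb e s' := by
  rw [Subgroup.mem_centralizer_singleton_iff] at hg
  have h1 := congrArg Units.val hg
  rw [Units.val_mul, Units.val_mul, coe_inv] at h1
  obtain ⟨a, D, hD⟩ := exists_blk e h2 h1
  have hg' : g⁻¹ * inv e = inv e * g⁻¹ := by
    rw [inv_mul_eq_iff_eq_mul, ← mul_assoc, hg, mul_inv_cancel_right]
  have h3 := congrArg Units.val hg'
  rw [Units.val_mul, Units.val_mul, coe_inv] at h3
  obtain ⟨b, E, hE⟩ := exists_blk e h2 h3
  have h4 : (g : Matrix (Fin n) (Fin n) F) * (g⁻¹ : GL (Fin n) F) = 1 := by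
    rw [← Units.val_mul, mul_inv_cancel, Units.val_one]
  rw [hD, hE, blk_mul, ← blk_one e] at h4
  obtain ⟨h5, h6⟩ := blk_injective e h4
  refine ⟨⟨D * s.1 * E, ?_⟩, ?_⟩
  · rw [det_mul, det_mul, s.2, mul_one, ← det_mul, h6, det_one]
  · apply Units.ext
    rw [Units.val_mul, Units.val_mul, coe_emb, hD, hE, blk_mul, blk_mul, mul_one, h5]
    rfl

omit [Fintype F] in
theorem inv_sq : inv e * inv e = (1 : GL (Fin n) F) := by
  apply Units.ext
  rw [Units.val_mul, coe_inv, blk_mul]
  simp [blk_one]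

omit [Fintype F] in
theorem inv_ne_one (h2 : (2 : F) ≠ 0) : inv e ≠ (1 : GL (Fin n) F) := by
  intro h
  have h1 := congrArg Units.val h
  rw [coe_inv, Units.val_one, ← blk_one e] at h1
  have h3 := (blk_injective e h1).1
  apply h2
  calc (2 : F) = 1 - (-1) := by ring
    _ = 0 := by rw [h3]; ring

omit [Fintype F] in
/-- an involution of `SL_m`, `m ≥ 2` -/
theorem exists_sq (hm : 2 ≤ m) (h2 : (2 : F) ≠ 0) :
    ∃ s : SpecialLinearGroup (Fin m) F, s ≠ 1 ∧ s * s = 1 := by
  let i0 : Fin m := ⟨0, by omega⟩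
  let i1 : Fin m := ⟨1, by omega⟩
  have h01 : i0 ≠ i1 := by
    intro h
    have := congrArg Fin.val h
    simp [i0, i1] at this
  let d : Fin m → F := fun i => if i = i0 then -1 else if i = i1 then -1 else 1
  have hdet : (diagonal d).det = 1 := by
    rw [det_diagonal]
    have h3 : ∀ i, d i = (if i = i0 then (-1 : F) else 1) * (if i = i1 then (-1 : F) else 1) := by
      intro i
      simp only [d]
      by_cases h4 : i = i0
      · have h5 : i ≠ i1 := fun h => h01 (h4 ▸ h)
        rw [if_pos h4, if_pos h4, if_neg h5, mul_one]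
      · rw [if_neg h4, if_neg h4, one_mul]
    rw [Finset.prod_congr rfl fun i _ => h3 i, Finset.prod_mul_distrib,
      Finset.prod_ite_eq' Finset.univ i0 (fun _ => (-1 : F)),
      Finset.prod_ite_eq' Finset.univ i1 (fun _ => (-1 : F))]
    simp
  have hsq : diagonal d * diagonal d = 1 := by
    rw [diagonal_mul_diagonal, ← diagonal_one]
    congr 1
    ext i
    simp only [d]
    split_ifs <;> simp
  refine ⟨⟨diagonal d, hdet⟩, ?_, ?_⟩
  · intro h
    have h3 := congrArg (fun z : SpecialLinearGroup (Fin m) F => z.1 i0 i0) h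
    simp only [diagonal_apply_eq, d, if_true] at h3
    have h4 : (1 : SpecialLinearGroup (Fin m) F).1 i0 i0 = 1 := by
      change (1 : Matrix (Fin m) (Fin m) F) i0 i0 = 1
      exact one_apply_eq i0
    rw [h4] at h3
    apply h2
    calc (2 : F) = 1 - (-1) := by ring
      _ = 0 := by rw [h3]; ring
  · apply Subtype.ext
    exact hsq

theorem main (hF : Odd (Fintype.card F)) (n : ℕ) (hn : 3 ≤ n)
    (h33 : ¬ (n = 3 ∧ Fintype.card F = 3)) :
    ∃ t : GL (Fin n) F, orderOf t = 2 ∧ t ∉ Subgroup.center (GL (Fin n) F) ∧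
      Cfsg.HasComponent (↥(Subgroup.centralizer ({t} : Set (GL (Fin n) F))) ⧸
        Cfsg.oddCore ↥(Subgroup.centralizer ({t} : Set (GL (Fin n) F)))) := by
  classical
  have h2 : (2 : F) ≠ 0 := by
    intro h
    have h3 : ringChar F = 2 := by
      have h4 : ringChar F ∣ 2 := ringChar.dvd (by exact_mod_cast h)
      exact ((Nat.dvd_prime Nat.prime_two).mp h4).resolve_left (CharP.ringChar_ne_one)
    have h5 := FiniteField.even_card_of_char_two h3
    obtain ⟨k, hk⟩ := hF
    omega
  obtain ⟨m, rfl⟩ : ∃ m, n = m + 1 := ⟨n - 1, by omega⟩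
  have hm : 2 ≤ m := by omega
  let e : Unit ⊕ Fin m ≃ Fin (m + 1) :=
    (Equiv.sumCongr (Equiv.ofUnique Unit (Fin 1)) (Equiv.refl (Fin m))).trans
      (finSumFinEquiv.trans (finCongr (Nat.add_comm 1 m)))
  have hex : ¬ (m = 2 ∧ Fintype.card F ≤ 3) := by
    rintro ⟨rfl, hc⟩
    apply h33
    refine ⟨rfl, ?_⟩
    have h4 := Fintype.one_lt_card (α := F)
    obtain ⟨k, hk⟩ := hF
    omega
  have hQ := sl_quasisimple (F := F) m hm hex
  refine ⟨inv e, ?_, ?_, ?_⟩
  · exact orderOf_eq_prime (by rw [pow_two]; exact inv_sq e) (inv_ne_one e h2)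
  · intro hc
    let B : Matrix Unit (Fin m) F := Matrix.of fun _ _ => 1
    have hU : Matrix.reindexAlgEquiv F F e (fromBlocks 1 B 0 1) *
        Matrix.reindexAlgEquiv F F e (fromBlocks 1 (-B) 0 1) = 1 := by
      rw [← map_mul, fromBlocks_multiply]
      simp
    have hU' : Matrix.reindexAlgEquiv F F e (fromBlocks 1 (-B) 0 1) *
        Matrix.reindexAlgEquiv F F e (fromBlocks 1 B 0 1) = 1 := by
      rw [← map_mul, fromBlocks_multiply]
      simp
    let u : GL (Fin (m + 1)) F := ⟨_, _, hU, hU'⟩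
    have h3 := congrArg Units.val (Subgroup.mem_center_iff.mp hc u)
    rw [Units.val_mul, Units.val_mul, coe_inv] at h3
    obtain ⟨a, D, hD⟩ := exists_blk e h2 h3
    have h4 : Matrix.reindexAlgEquiv F F e (fromBlocks 1 B 0 1) =
        Matrix.reindexAlgEquiv F F e (fromBlocks (a • (1 : Matrix Unit Unit F)) 0 0 D) := hD
    have h5 := (Matrix.reindexAlgEquiv F F e).injective h4
    rw [fromBlocks_inj] at h5
    have h6 := congrFun (congrFun h5.2.1 ()) (⟨0, by omega⟩ : Fin m)
    simp [B] at h6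
  · set C := Subgroup.centralizer ({inv e} : Set (GL (Fin (m + 1)) F)) with hC
    let f : SpecialLinearGroup (Fin m) F →* C := (emb e).codRestrict C (emb_comm e)
    let g : SpecialLinearGroup (Fin m) F →* (C ⧸ Cfsg.oddCore C) :=
      (QuotientGroup.mk' (Cfsg.oddCore C)).comp f
    have hgn : g.range.Normal := by
      refine ⟨?_⟩
      rintro _ ⟨s, rfl⟩ q
      obtain ⟨c, rfl⟩ := QuotientGroup.mk'_surjective (Cfsg.oddCore C) q
      obtain ⟨s', hs'⟩ := conj_emb e h2 c.2 s
      refine ⟨s', ?_⟩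
      have h3 : f s' = c * f s * c⁻¹ := Subtype.ext hs'.symm
      change QuotientGroup.mk' (Cfsg.oddCore C) (f s') = _
      rw [h3, map_mul, map_mul, map_inv]
      rfl
    refine ⟨g.range, hgn.isSubnormal, ?_⟩
    have hnt : Nontrivial g.range := by
      obtain ⟨s, hs1, hs2⟩ := exists_sq (F := F) hm h2
      refine ⟨⟨⟨g s, ⟨s, rfl⟩⟩, 1, ?_⟩⟩
      intro h
      have h3 : g s = 1 := congrArg Subtype.val h
      have h4 : f s ∈ Cfsg.oddCore C := by
        rw [← QuotientGroup.ker_mk' (Cfsg.oddCore C), MonoidHom.mem_ker]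
        exact h3
      have h5 : f s * f s = 1 := by rw [← map_mul, hs2, map_one]
      have h6 : orderOf (f s) ∣ 2 := orderOf_dvd_of_pow_eq_one (by rw [pow_two]; exact h5)
      have h7 : orderOf (f s) ∣ Nat.card (Cfsg.oddCore C) := by
        have := orderOf_dvd_natCard (⟨f s, h4⟩ : Cfsg.oddCore C)
        rwa [Subgroup.orderOf_mk] at this
      have h8 : (Nat.card (Cfsg.oddCore C)).Coprime 2 := H1.Cores.coprime_card_pPrimeCore 2
      have h9 := Nat.dvd_gcd h7 h6
      rw [h8] at h9
      have h10 : f s = 1 := orderOf_eq_one_iff.mp (Nat.dvd_one.mp h9)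
      apply hs1
      have h11 : emb e s = 1 := congrArg Subtype.val h10
      have h12 := congrArg Units.val h11
      rw [coe_emb, Units.val_one, ← blk_one e] at h12
      exact Subtype.ext (blk_injective e h12).2
    exact H26.Quasisimple.of_surjective hQ g.rangeRestrict g.rangeRestrict_surjective

end H28.GLComp
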