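import Mathlib
import Cfsg.Prelude.Def_Local
import Cfsg.Prelude.Def_Balance
import Cfsg.Agent.Lib.H28.Cj
import Cfsg.Agent.Lib.H28.RelSyl
import Cfsg.Agent.Lib.H28.Sup
import Cfsg.Agent.Lib.H57.Std
import Cfsg.Agent.Lib.H26.GenFitting
import Cfsg.Agent.Lib.H26.PComponents
import Cfsg.Agent.Lib.H27.LBalTwo
import Cfsg.Agent.S0215

/-!
The trichotomy for standard subgroups.
-/

set_option autoImplicit false

open Cfsg Subgroup H28.Cj H28.RelSyl
open scoped commutatorElement

universe u

namespace H28.StdTri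

variable {G : Type u} [Group G] [Finite G]

section

variable (hO : oddCore G = ⊥) (hO2 : pCore 2 G = ⊥)
include hO hO2

/-- abelian subnormal subgroups are trivial -/
theorem abelian_subnormal {Z : Subgroup G} (hZ : Z.IsSubnormal)
    (hc : ∀ a ∈ Z, ∀ b ∈ Z, a * b = b * a) : Z = ⊥ := by
  have h2p : Fact (Nat.Prime 2) := ⟨Nat.prime_two⟩
  by_contra hne
  have h1 : Nat.card Z ≠ 1 := fun h => hne (Subgroup.card_eq_one.mp h)
  obtain ⟨p, hp, hd⟩ := Nat.exists_prime_and_dvd h1
  have := Fact.mk hp
  obtain ⟨z, hz⟩ := exists_prime_orderOf_dvd_card' (G := Z) p hd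
  have hzn : ((zpowers (z : G)).subgroupOf Z).Normal := by
    rw [normal_subgroupOf_iff_le_normalizer (zpowers_le.mpr z.2)]
    intro y hy
    apply centralizer_le_normalizer
    rw [mem_centralizer_iff]
    intro w hw
    exact hc w ((zpowers_le.mpr z.2) hw) y hy
  have hzs : (zpowers (z : G)).IsSubnormal :=
    H26.Subnormal.of_normal_subgroupOf hZ (zpowers_le.mpr z.2) hzn
  have hcard : Nat.card (zpowers (z : G)) = p := by
    rw [Nat.card_zpowers, Subgroup.orderOf_coe, hz]
  have hbot : zpowers (z : G) = ⊥ := by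
    by_cases hp2 : p = 2
    · rw [eq_bot_iff, ← hO2]
      apply H26.Subnormal.le_pCore hzs
      exact IsPGroup.of_card (n := 1) (by rw [hcard, hp2, pow_one])
    · rw [eq_bot_iff, ← hO]
      apply H26.Subnormal.le_pPrimeCore hzs
      rw [hcard]
      exact (Nat.coprime_primes hp Nat.prime_two).mpr hp2
  rw [hbot, Subgroup.card_bot] at hcard
  exact hp.one_lt.ne hcard

theorem center_component {L : Subgroup G} (hL : L.IsSubnormal) : L ⊓ centralizer (L : Set G) = ⊥ := by
  apply abelian_subnormal hO hO2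
  · refine H26.Subnormal.of_normal_subgroupOf hL inf_le_left ?_
    rw [normal_subgroupOf_iff_le_normalizer inf_le_left]
    intro y hy
    apply centralizer_le_normalizer
    rw [mem_centralizer_iff]
    intro w hw
    exact (mem_centralizer_iff.mp hw.2 y hy).symm
  · intro a ha b hb
    exact (mem_centralizer_iff.mp ha.2 b hb.1).symm

theorem component_simple {L : Subgroup G} (hL : IsComponent L) : IsSimpleGroup L := by
  have h1 := center_component hO hO2 hL.1
  have h2 : center L = ⊥ := by
    rw [eq_bot_iff]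
    intro x hx
    have h3 : (x : G) ∈ L ⊓ centralizer (L : Set G) := by
      refine mem_inf.mpr ⟨x.2, ?_⟩
      rw [mem_centralizer_iff]
      intro y hy
      exact congrArg Subtype.val (mem_center_iff.mp hx ⟨y, hy⟩)
    rw [h1, mem_bot] at h3
    rw [mem_bot]
    exact Subtype.ext h3
  have h3 := hL.2.2
  have e : (L ⧸ center L) ≃* L :=
    (QuotientGroup.quotientMulEquivOfEq h2).trans QuotientGroup.quotientBot
  exact (MulEquiv.isSimpleGroup_congr e).mp h3

end

omit [Finite G] in
/-- conjugates of components -/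
theorem comp_cj {L : Subgroup G} (hL : IsComponent L) (g : G) : IsComponent (cj g L) :=
  (H26.Components.map_conj_iff g).mpr hL

section main

variable {A : Subgroup G} (hA : IsStandardSubgroup A) (hO : oddCore G = ⊥)
  (hev : 2 ∣ Nat.card A) {t : G} (ht : orderOf t = 2) (htA : t ∈ centralizer (A : Set G))
include hA

theorem A_ne_bot : A ≠ ⊥ := by
  intro h
  have := H26.Quasisimple.nontrivial hA.1
  have h1 : Nat.card A = 1 := by rw [h, Subgroup.card_bot]
  exact (Finite.one_lt_card_iff_nontrivial.mpr this).ne' h1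

/-- involutions of `C(A)`: the centralizer normalizes `A` -/
theorem cent_le {s : G} (hs : orderOf s = 2) (hsA : s ∈ centralizer (A : Set G)) :
    centralizer ({s} : Set G) ≤ normalizer (A : Set G) :=
  H57.Std.centralizer_le_normalizer hA hs hsA

omit [Finite G] hA in
include htA in
theorem A_le_cent : A ≤ centralizer ({t} : Set G) := by
  intro a ha
  rw [mem_centralizer_singleton_iff]
  exact mem_centralizer_iff.mp htA a ha

include hO hev ht htA in
theorem A_le_layer : A ≤ layer G := by
  have h2p : Fact (Nat.Prime 2) := ⟨Nat.prime_two⟩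
  have hT : IsPGroup 2 (zpowers t) :=
    IsPGroup.of_card (n := 1) (by rw [Nat.card_zpowers, ht, pow_one])
  have hZ : H26.ZStarUse.ZStarHyp.{u} :=
    fun G _ _ P u h1 h2 h3 => Cfsg.Agent.S0215.result P u h1 h2 h3
  have h1 := H27.LBalTwo.pLayer_le_layer hZ hO hT
  refine le_trans ?_ h1
  set C := centralizer (zpowers t : Set G) with hC
  have hCeq : C = centralizer ({t} : Set G) := by
    rw [hC, zpowers_eq_closure, Subgroup.centralizer_closure]
  have hAC : A ≤ C := by rw [hCeq]; exact A_le_cent htA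
  have hAn : (A.subgroupOf C).Normal := by
    rw [normal_subgroupOf_iff_le_normalizer hAC, hCeq]
    exact cent_le hA ht htA
  have hcomp : IsComponent (A.subgroupOf C) :=
    ⟨hAn.isSubnormal, (H26.Components.isQuasisimple_subgroupOf hAC).mpr hA.1⟩
  have hp : IsPComponent 2 (A.subgroupOf C) := by
    apply H26.PComponents.of_isComponent hcomp
    intro hle
    have h3 := (Subgroup.card_dvd_of_le hle)
    rw [card_subgroupOf hAC] at h3
    have h4 : (Nat.card (pPrimeCore 2 C)).Coprime 2 := H1.Cores.coprime_card_pPrimeCore 2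
    have h5 := Nat.dvd_gcd (hev.trans h3) (dvd_refl 2)
    rw [h4] at h5
    norm_num at h5
  have h3 := Subgroup.map_mono (f := C.subtype) (H26.PComponents.le_pLayer hp)
  rwa [subgroupOf_map_subtype, inf_eq_left.mpr hAC] at h3

include hO hev ht htA in
/-- if `O_2(G) ≠ 1` then `A` is normal -/
theorem normal_of_core (hne : pCore 2 G ≠ ⊥) : A.Normal := by
  have h2p : Fact (Nat.Prime 2) := ⟨Nat.prime_two⟩
  have h1 : pCore 2 G ≤ centralizer (A : Set G) := by
    have h2 := H26.Components.commutator_layer_pCore (G := G) 2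
    rw [commutator_eq_bot_iff_le_centralizer] at h2
    rw [le_centralizer_iff]
    exact (A_le_layer hA hO hev ht htA).trans h2
  rw [← normalizer_eq_top_iff, eq_top_iff]
  intro g _
  rw [hA.2.2.2]
  by_contra hg
  have h2 := hA.2.1.2 g hg
  have hn : (pCore 2 G).Normal := H1.Cores.pCore_normal 2
  have h3 : pCore 2 G ≤ centralizer (A : Set G) ⊓
      (centralizer (A : Set G)).map (MulAut.conj g).toMonoidHom := by
    refine le_inf h1 ?_
    have : cj g (pCore 2 G) = pCore 2 G := by
      rw [← mem_normalizer_iff_cj, normalizer_eq_top_iff.mpr hn]; exact mem_top g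
    rw [← this]
    exact cj_le_cj.mpr h1
  have h4 := Subgroup.card_dvd_of_le h3
  have h5 : 2 ∣ Nat.card (pCore 2 G) := by
    rcases (H1.Cores.isPGroup_pCore (G := G) 2).card_eq_or_dvd with h6 | h6
    · exact absurd (Subgroup.card_eq_one.mp h6) hne
    · exact h6
  obtain ⟨k, hk⟩ := h2
  have h6 := h5.trans h4
  omega

omit [Finite G] in
/-- `A` is normal in `G` if it is a component of `G` -/
theorem normal_of_component (hc : IsComponent A) : A.Normal := by
  rw [← normalizer_eq_top_iff, eq_top_iff]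
  intro g _
  rw [mem_normalizer_iff_cj]
  by_contra hne
  exact hA.2.2.1 g hne (H26.Components.commutator_eq_bot_of_ne hc (comp_cj hc g) (Ne.symm hne))

include hO in
/-- a component commuting with `A` contains an involution of `C(A)` -/
theorem exists_involution {M : Subgroup G} (hM : IsComponent M) (hMA : M ≤ centralizer (A : Set G)) :
    ∃ s ∈ M, orderOf s = 2 ∧ centralizer ({s} : Set G) ≤ normalizer (A : Set G) := by
  have h2p : Fact (Nat.Prime 2) := ⟨Nat.prime_two⟩
  obtain ⟨s, hs⟩ := exists_prime_orderOf_dvd_card' (G := M) 2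
    (H26.PComponents.dvd_card_of_component hO hM)
  have hs' : orderOf (s : G) = 2 := by rw [Subgroup.orderOf_coe, hs]
  exact ⟨s, s.2, hs', cent_le hA hs' (hMA s.2)⟩

include hO in
/-- the case `A ≤ L` for a component `L` -/
theorem case_one (hO2 : pCore 2 G = ⊥) {L : Subgroup G} (hL : IsComponent L) (hAL : A ≤ L) :
    A.Normal ∨ (A ≤ layer G ∧ IsSimpleGroup ↥(layer G) ∧ ¬ IsMulCommutative ↥(layer G)) := by
  by_cases hM : ∃ M : Subgroup G, IsComponent M ∧ M ≠ L
  · left
    obtain ⟨M, hM, hML⟩ := hM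
    have hcomm := H26.Components.commutator_eq_bot_of_ne hM hL hML
    rw [commutator_eq_bot_iff_le_centralizer] at hcomm
    obtain ⟨s, hsM, hs, hsC⟩ := exists_involution hA hO hM (hcomm.trans (centralizer_le hAL))
    have hLs : L ≤ centralizer ({s} : Set G) := by
      intro l hl
      rw [mem_centralizer_singleton_iff]
      exact mem_centralizer_iff.mp (hcomm hsM) l hl
    have hLA : L ≤ normalizer (A : Set G) := hLs.trans hsC
    have hsimp := component_simple hO hO2 hL
    have hn : (A.subgroupOf L).Normal := (normal_subgroupOf_iff_le_normalizer hAL).mpr hLA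
    rcases hn.eq_bot_or_eq_top with h1 | h1
    · rw [subgroupOf_eq_bot, disjoint_iff, inf_eq_left.mpr hAL] at h1
      exact absurd h1 (A_ne_bot hA)
    · rw [subgroupOf_eq_top] at h1
      have : A = L := le_antisymm hAL h1
      exact normal_of_component hA (this ▸ hL)
  · right
    push Not at hM
    have h1 : layer G = L := by
      apply le_antisymm
      · exact sSup_le fun K hK => (hM K hK).le
      · exact H26.Components.le_layer hL
    refine ⟨h1 ▸ hAL, ?_, ?_⟩
    · rw [h1]; exact component_simple hO hO2 hL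
    · rw [h1]; exact H26.Quasisimple.not_isMulCommutative hL.2

end main

/-! ### the case of two components -/

omit [Finite G] in
theorem uniq_mul {X Y : Subgroup G} (h : X ⊓ Y = ⊥) {a a' b b' : G} (ha : a ∈ X) (ha' : a' ∈ X)
    (hb : b ∈ Y) (hb' : b' ∈ Y) (he : a * b = a' * b') : a = a' ∧ b = b' := by
  have h1 : a'⁻¹ * a = b' * b⁻¹ := by
    rw [inv_mul_eq_iff_eq_mul, ← mul_assoc, ← he, mul_inv_cancel_right]
  have h2 : a'⁻¹ * a ∈ X ⊓ Y :=
    ⟨X.mul_mem (X.inv_mem ha') ha, by rw [h1]; exact Y.mul_mem hb' (Y.inv_mem hb)⟩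
  rw [h, mem_bot] at h2
  have h3 : a = a' := (inv_mul_eq_one.mp h2).symm
  refine ⟨h3, ?_⟩
  rw [h3] at he
  exact mul_left_cancel he

section diag

variable {t : G} (ht : t * t = 1) {L : Subgroup G}
  (hc : ∀ a ∈ L, ∀ b ∈ cj t L, a * b = b * a)

omit [Finite G] in
include ht in
theorem cj_t_t : cj t (cj t L) = L := by rw [cj_cj, ht, cj_one]

/-- the diagonal map -/
def diag : L →* G where
  toFun l := l * (t * l * t⁻¹)
  map_one' := by simp
  map_mul' x y := by
    have h := hc y y.2 (t * x * t⁻¹) (conj_mem_cj.mpr x.2)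
    calc (((x * y : L) : G)) * (t * ((x * y : L) : G) * t⁻¹)
        = x * (y * (t * x * t⁻¹)) * (t * y * t⁻¹) := by push_cast; group
      _ = x * (t * x * t⁻¹) * (y * (t * y * t⁻¹)) := by rw [h]; group

omit [Finite G] in
theorem diag_apply (l : L) : diag hc l = l * (t * l * t⁻¹) := rfl

omit [Finite G] in
theorem diag_injective (hinf : L ⊓ cj t L = ⊥) : Function.Injective (diag hc) := by
  intro x y h
  rw [diag_apply, diag_apply] at h
  exact Subtype.ext (uniq_mul hinf x.2 y.2 (conj_mem_cj.mpr x.2) (conj_mem_cj.mpr y.2) h).1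

omit [Finite G] in
include ht in
theorem diag_mem (l : L) : diag hc l ∈ centralizer ({t} : Set G) := by
  rw [mem_centralizer_singleton_iff, diag_apply]
  have h := hc l l.2 (t * l * t⁻¹) (conj_mem_cj.mpr l.2)
  have ht' : t⁻¹ = t := inv_eq_of_mul_eq_one_left ht
  have h1 : (t * l * t⁻¹ : G) * l = l * (t * l * t⁻¹) := h.symm
  calc (l : G) * (t * l * t⁻¹) * t = (t * l * t⁻¹ : G) * l * t := by rw [h1]
    _ = t * (l * (t⁻¹ * l * t)) := by group
    _ = t * (l * (t * l * t⁻¹)) := by rw [ht']

omit [Finite G] in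
include ht in
theorem mem_range_diag (hinf : L ⊓ cj t L = ⊥) {x : G} (hx : x ∈ L ⊔ cj t L)
    (hxt : x ∈ centralizer ({t} : Set G)) : x ∈ (diag hc).range := by
  have hn : L ≤ normalizer (cj t L : Set G) := by
    intro a ha
    apply centralizer_le_normalizer
    rw [mem_centralizer_iff]
    intro b hb
    exact (hc a ha b hb).symm
  obtain ⟨a, ha, b, hb, rfl⟩ := (H28.Sup.mem_sup_iff' hn).mp hx
  have h1 : t * a * t⁻¹ ∈ cj t L := conj_mem_cj.mpr ha
  have h2 : t * b * t⁻¹ ∈ L := by
    have := conj_mem_cj (g := t).mpr hb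
    rwa [cj_t_t ht] at this
  have h3 : a * b = (t * b * t⁻¹) * (t * a * t⁻¹) := by
    rw [hc _ h2 _ h1]
    rw [mem_centralizer_singleton_iff] at hxt
    calc a * b = (a * b * t) * t⁻¹ := by group
      _ = (t * (a * b)) * t⁻¹ := by rw [hxt]
      _ = _ := by group
  have h4 := (uniq_mul hinf ha h2 hb h1 h3).2
  refine ⟨⟨a, ha⟩, ?_⟩
  rw [diag_apply, ← h4]

end diag

section two

variable {A : Subgroup G} (hA : IsStandardSubgroup A) (hO : oddCore G = ⊥) (hO2 : pCore 2 G = ⊥)
  {t : G} (ht : orderOf t = 2) (htA : t ∈ centralizer (A : Set G))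
  {L : Subgroup G} (hL : IsComponent L) (hne : cj t L ≠ L) (hAN : A ≤ L ⊔ cj t L)

include hL hne

include hO hO2 in
theorem comp_inf : L ⊓ cj t L = ⊥ := by
  have hcomm := H26.Components.commutator_eq_bot_of_ne hL (comp_cj hL t) (Ne.symm hne)
  rw [eq_bot_iff, ← center_component hO hO2 hL.1]
  refine le_inf inf_le_left ?_
  rw [commutator_eq_bot_iff_le_centralizer, le_centralizer_iff] at hcomm
  exact inf_le_right.trans hcomm

omit [Finite G] in
theorem comp_comm : ∀ a ∈ L, ∀ b ∈ cj t L, a * b = b * a := by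
  have hcomm := H26.Components.commutator_eq_bot_of_ne hL (comp_cj hL t) (Ne.symm hne)
  rw [commutator_eq_bot_iff_le_centralizer] at hcomm
  intro a ha b hb
  exact (mem_centralizer_iff.mp (hcomm ha) b hb).symm

omit [Finite G] hL hne in
include ht in
theorem sq_one : t * t = 1 := by
  rw [← pow_two, ← ht, pow_orderOf_eq_one]

include hA hO hO2 ht htA hAN

theorem range_eq : (diag (comp_comm hL hne)).range = A := by
  have hinf := comp_inf hO hO2 hL hne
  have htt := sq_one ht
  have hAr : A ≤ (diag (comp_comm hL hne)).range := fun a ha =>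
    mem_range_diag htt _ hinf (hAN ha) (A_le_cent htA ha)
  have hn : (A.comap (diag (comp_comm hL hne))).Normal := by
    constructor
    intro x hx g
    rw [mem_comap] at hx ⊢
    rw [map_mul, map_mul, map_inv]
    exact conj_mem_of_le_normalizer (cent_le hA ht htA) (diag_mem htt _ g) hx
  have hsimp := component_simple hO hO2 hL
  rcases hn.eq_bot_or_eq_top with h | h
  · exfalso
    apply A_ne_bot hA
    rw [eq_bot_iff]
    intro a ha
    obtain ⟨l, rfl⟩ := hAr ha
    have h1 : l ∈ A.comap (diag (comp_comm hL hne)) := ha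
    rw [h, mem_bot] at h1
    rw [h1, map_one]
    exact one_mem _
  · refine le_antisymm ?_ hAr
    rintro _ ⟨l, rfl⟩
    have h1 : l ∈ A.comap (diag (comp_comm hL hne)) := by rw [h]; exact mem_top l
    exact h1

theorem other {M : Subgroup G} (hM : IsComponent M) : M = L ∨ M = cj t L := by
  have hinf := comp_inf hO hO2 hL hne
  by_contra h
  push Not at h
  obtain ⟨h1, h2⟩ := h
  have c1 := H26.Components.commutator_eq_bot_of_ne hM hL h1
  have c2 := H26.Components.commutator_eq_bot_of_ne hM (comp_cj hL t) h2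
  rw [commutator_eq_bot_iff_le_centralizer] at c1 c2
  have hMA : M ≤ centralizer (A : Set G) := by
    rw [le_centralizer_iff]
    exact hAN.trans (sup_le (le_centralizer_iff.mp c1) (le_centralizer_iff.mp c2))
  obtain ⟨s, hsM, hs, hsC⟩ := exists_involution hA hO hM hMA
  have hLs : L ≤ centralizer ({s} : Set G) := by
    intro l hl
    rw [mem_centralizer_singleton_iff]
    exact mem_centralizer_iff.mp (c1 hsM) l hl
  have hLA : L ≤ normalizer (A : Set G) := hLs.trans hsC
  have hr := range_eq hA hO hO2 ht htA hL hne hAN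
  apply H26.Quasisimple.not_isMulCommutative hL.2
  refine ⟨⟨fun l l' => ?_⟩⟩
  have h3 : diag (comp_comm hL hne) l' ∈ A := by rw [← hr]; exact ⟨l', rfl⟩
  have h4 := conj_mem_of_le_normalizer hLA l.2 h3
  rw [← hr] at h4
  obtain ⟨l'', h5⟩ := h4
  rw [diag_apply, diag_apply] at h5
  have h6 : (l : G) * (l' * (t * l' * t⁻¹)) * (l : G)⁻¹ = (l * l' * (l : G)⁻¹) * (t * l' * t⁻¹) := by
    have := comp_comm hL hne _ (L.inv_mem l.2) (t * l' * t⁻¹) (conj_mem_cj.mpr l'.2)
    calc (l : G) * (l' * (t * l' * t⁻¹)) * (l : G)⁻¹ = (l : G) * l' * ((t * l' * t⁻¹) * (l : G)⁻¹) := by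
          group
      _ = _ := by rw [← this]; group
  rw [h6] at h5
  obtain ⟨h7, h8⟩ := uniq_mul hinf l''.2 (L.mul_mem (L.mul_mem l.2 l'.2) (L.inv_mem l.2))
    (conj_mem_cj.mpr l''.2) (conj_mem_cj.mpr l'.2) h5
  have h9 : (l'' : G) = l' := by simpa using h8
  rw [h9] at h7
  apply Subtype.ext
  change (l : G) * l' = l' * l
  nth_rewrite 2 [h7]
  group

theorem layer_eq : layer G = L ⊔ cj t L := by
  apply le_antisymm
  · refine sSup_le fun K hK => ?_
    rcases other hA hO hO2 ht htA hL hne hAN hK with h | h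
    · rw [h]; exact le_sup_left
    · rw [h]; exact le_sup_right
  · exact sup_le (H26.Components.le_layer hL) (H26.Components.le_layer (comp_cj hL t))

theorem fix_eq_one {k : G} (hk : k ∈ centralizer (A : Set G)) (hkL : cj k L = L) : k = 1 := by
  have h2p : Fact (Nat.Prime 2) := ⟨Nat.prime_two⟩
  have hinf := comp_inf hO hO2 hL hne
  have hr := range_eq hA hO hO2 ht htA hL hne hAN
  have hkL' : cj k (cj t L) = cj t L := by
    rcases other hA hO hO2 ht htA hL hne hAN (comp_cj (comp_cj hL t) k) with h | h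
    · exfalso
      rw [← hkL, hkL] at h
      nth_rewrite 2 [← hkL] at h
      exact hne (cj_injective k h)
    · exact h
  have key : ∀ l ∈ L, k * l * k⁻¹ = l ∧ k * (t * l * t⁻¹) * k⁻¹ = t * l * t⁻¹ := by
    intro l hl
    have h1 : diag (comp_comm hL hne) ⟨l, hl⟩ ∈ A := by rw [← hr]; exact ⟨_, rfl⟩
    have h2 := mem_centralizer_iff.mp hk _ h1
    rw [diag_apply] at h2
    refine uniq_mul hinf ?_ hl ?_ (conj_mem_cj.mpr hl) ?_
    · have := conj_mem_cj (g := k).mpr hl
      rwa [hkL] at this
    · have := conj_mem_cj (g := k).mpr (conj_mem_cj (g := t).mpr hl)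
      rwa [hkL'] at this
    · calc k * l * k⁻¹ * (k * (t * l * t⁻¹) * k⁻¹) = k * (l * (t * l * t⁻¹)) * k⁻¹ := by group
        _ = (l * (t * l * t⁻¹)) * k * k⁻¹ := by rw [← h2]
        _ = _ := by group
  have hkE : k ∈ centralizer (layer G : Set G) := by
    rw [layer_eq hA hO hO2 ht htA hL hne hAN]
    have h1 : L ⊔ cj t L ≤ centralizer ({k} : Set G) := by
      refine sup_le ?_ ?_
      · intro l hl
        rw [mem_centralizer_singleton_iff]
        have := (key l hl).1
        rw [mul_inv_eq_iff_eq_mul] at this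
        exact this.symm
      · rintro _ ⟨l, hl, rfl⟩
        rw [mem_centralizer_singleton_iff]
        have := (key l hl).2
        rw [mul_inv_eq_iff_eq_mul] at this
        exact this.symm
    rw [mem_centralizer_iff]
    intro y hy
    exact mem_centralizer_singleton_iff.mp (h1 hy)
  have hF : generalizedFittingSubgroup G = layer G := by
    rw [H26.GenFitting.gFitting_eq_of_pPrimeCore_eq_bot (p := 2) hO, hO2, sup_bot_eq]
  have h3 : k ∈ layer G := by
    have := H26.Components.centralizer_gFitting_le (G := G)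
    rw [hF] at this
    exact this hkE
  have hn : (layer G).Normal := inferInstance
  have h4 := center_component hO hO2 hn.isSubnormal
  have h5 : k ∈ layer G ⊓ centralizer (layer G : Set G) := ⟨h3, hkE⟩
  rw [h4, mem_bot] at h5
  exact h5

theorem cent_eq : centralizer (A : Set G) = zpowers t := by
  apply le_antisymm
  · intro k hk
    rcases other hA hO hO2 ht htA hL hne hAN (comp_cj hL k) with h | h
    · rw [fix_eq_one hA hO hO2 ht htA hL hne hAN hk h]
      exact one_mem _
    · have h1 : cj (t * k) L = L := by rw [← cj_cj, h, cj_t_t (sq_one ht)]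
      have h2 := fix_eq_one hA hO hO2 ht htA hL hne hAN (mul_mem htA hk) h1
      rw [← inv_mem_iff, inv_eq_of_mul_eq_one_left h2]
      exact mem_zpowers t
  · rw [zpowers_le]; exact htA

theorem case_two : ∃ X : Subgroup G, IsSimpleGroup ↥X ∧ ¬ IsMulCommutative ↥X ∧ Nonempty (↥X ≃* ↥A) ∧
    (∀ a ∈ X, ∀ b ∈ X.map (MulAut.conj t).toMonoidHom, a * b = b * a) ∧
    X ⊓ X.map (MulAut.conj t).toMonoidHom = ⊥ ∧
    X ⊔ X.map (MulAut.conj t).toMonoidHom = Cfsg.layer G ∧
    Subgroup.centralizer (A : Set G) = Subgroup.zpowers t := by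
  have hinf := comp_inf hO hO2 hL hne
  have hr := range_eq hA hO hO2 ht htA hL hne hAN
  refine ⟨L, component_simple hO hO2 hL, H26.Quasisimple.not_isMulCommutative hL.2, ⟨?_⟩,
    comp_comm hL hne, hinf, (layer_eq hA hO hO2 ht htA hL hne hAN).symm,
    cent_eq hA hO hO2 ht htA hL hne hAN⟩
  exact (MonoidHom.ofInjective (diag_injective (comp_comm hL hne) hinf)).trans
    (MulEquiv.subgroupCongr hr)

end two

section red

variable {A : Subgroup G} (hA : IsStandardSubgroup A) (hO : oddCore G = ⊥) (hO2 : pCore 2 G = ⊥)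
  (hev : 2 ∣ Nat.card A) {t : G} (ht : orderOf t = 2) (htA : t ∈ centralizer (A : Set G))
include hA hO hO2 hev ht htA

theorem reduction : ∃ L : Subgroup G, IsComponent L ∧ A ≤ L ⊔ cj t L := by
  have hAE := A_le_layer hA hO hev ht htA
  obtain ⟨L, hL, hLA⟩ : ∃ L : Subgroup G, IsComponent L ∧ ¬ A ≤ centralizer (L : Set G) := by
    by_contra h
    push Not at h
    have h1 : layer G ≤ centralizer (A : Set G) :=
      sSup_le fun K hK => le_centralizer_iff.mp (h K hK)
    apply H26.Quasisimple.not_isMulCommutative hA.1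
    refine ⟨⟨fun a b => Subtype.ext ?_⟩⟩
    exact (mem_centralizer_iff.mp (h1 (hAE a.2)) b b.2).symm
  refine ⟨L, hL, ?_⟩
  set N : Subgroup G := L ⊔ cj t L with hN
  have htt := sq_one ht
  have hNt : cj t N = N := by
    rw [hN, cj_sup, cj_t_t htt, sup_comm]
  have hNl : N ≤ layer G :=
    sup_le (H26.Components.le_layer hL) (H26.Components.le_layer (comp_cj hL t))
  have hNs : N.IsSubnormal := by
    have hn : (layer G).Normal := inferInstance
    refine H26.Subnormal.of_normal_subgroupOf hn.isSubnormal hNl ?_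
    rw [normal_subgroupOf_iff_le_normalizer hNl]
    intro g hg
    rw [mem_normalizer_iff_cj, hN, cj_sup]
    congr 1
    · exact mem_normalizer_iff_cj.mp (H26.Components.layer_le_normalizer hL hg)
    · exact mem_normalizer_iff_cj.mp (H26.Components.layer_le_normalizer (comp_cj hL t) hg)
  have hNc := center_component hO hO2 hNs
  have hE : layer G ≤ N ⊔ centralizer (N : Set G) := by
    refine sSup_le fun K hK => ?_
    by_cases h1 : K = L
    · rw [h1]; exact le_sup_of_le_left le_sup_left
    by_cases h2 : K = cj t L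
    · rw [h2]; exact le_sup_of_le_left le_sup_right
    have c1 := H26.Components.commutator_eq_bot_of_ne hK hL h1
    have c2 := H26.Components.commutator_eq_bot_of_ne hK (comp_cj hL t) h2
    rw [commutator_eq_bot_iff_le_centralizer, le_centralizer_iff] at c1 c2
    exact le_sup_of_le_right (le_centralizer_iff.mp (sup_le c1 c2))
  have hdec : ∀ a ∈ A, ∃ n ∈ N ⊓ centralizer ({t} : Set G), ∃ z ∈ centralizer (N : Set G),
      a = n * z := by
    intro a ha
    obtain ⟨n, hn, z, hz, h1⟩ := (H28.Sup.mem_sup_iff (centralizer_le_normalizer _)).mp (hE (hAE ha))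
    refine ⟨n, ⟨hn, ?_⟩, z, hz, h1⟩
    have h2 : t * n * t⁻¹ ∈ N := by
      have := conj_mem_cj (g := t).mpr hn
      rwa [hNt] at this
    have h3 : t * z * t⁻¹ ∈ centralizer (N : Set G) := by
      have := conj_mem_cj (g := t).mpr hz
      rwa [cj_centralizer, hNt] at this
    have h4 : n * z = (t * n * t⁻¹) * (t * z * t⁻¹) := by
      have h5 := mem_centralizer_iff.mp htA a ha
      rw [h1] at h5
      calc n * z = (n * z * t) * t⁻¹ := by group
        _ = (t * (n * z)) * t⁻¹ := by rw [h5]
        _ = _ := by group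
    have h5 := (uniq_mul hNc hn h2 hz h3 h4).1
    change n ∈ centralizer ({t} : Set G)
    rw [mem_centralizer_singleton_iff]
    nth_rewrite 1 [h5]
    group
  set C := centralizer ({t} : Set G) with hC
  have hAC : A ≤ C := A_le_cent htA
  have hAn : (A.subgroupOf C).Normal := by
    rw [normal_subgroupOf_iff_le_normalizer hAC]
    exact cent_le hA ht htA
  have hcomp : IsComponent (A.subgroupOf C) :=
    ⟨hAn.isSubnormal, (H26.Components.isQuasisimple_subgroupOf hAC).mpr hA.1⟩
  have hNsC : (N.subgroupOf C).IsSubnormal := hNs.subgroupOf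
  rcases H26.Components.le_or_commutator_eq_bot hcomp hNsC with h | h
  · intro a ha
    have : (⟨a, hAC ha⟩ : C) ∈ N.subgroupOf C := h (by rwa [mem_subgroupOf])
    rwa [mem_subgroupOf] at this
  · exfalso
    apply hLA
    have hcomm : ∀ a ∈ A, ∀ n ∈ N ⊓ C, a * n = n * a := by
      intro a ha n hn
      rw [commutator_eq_bot_iff_le_centralizer] at h
      have h1 : (⟨a, hAC ha⟩ : C) ∈ A.subgroupOf C := by rwa [mem_subgroupOf]
      have h2 : (⟨n, hn.2⟩ : C) ∈ N.subgroupOf C := by rw [mem_subgroupOf]; exact hn.1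
      have h3 := mem_centralizer_iff.mp (h h1) _ h2
      exact (congrArg Subtype.val h3).symm
    have h1 : ⁅A, A⁆ ≤ centralizer (N : Set G) := by
      rw [commutator_le]
      intro a ha b hb
      obtain ⟨n, hn, z, hz, rfl⟩ := hdec a ha
      obtain ⟨n', hn', z', hz', rfl⟩ := hdec b hb
      have e1 := hcomm _ ha n' hn'
      have e2 : n * z = z * n := mem_centralizer_iff.mp hz n hn.1
      have e3 : n * z' = z' * n := mem_centralizer_iff.mp hz' n hn.1
      have e4 : n' * z = z * n' := mem_centralizer_iff.mp hz n' hn'.1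
      have e5 : n' * z' = z' * n' := mem_centralizer_iff.mp hz' n' hn'.1
      have e6 : ⁅n * z, n' * z'⁆ = ⁅z, z'⁆ := by
        have f1 : Commute (n * z) n' := e1
        have f2 : Commute n z := e2
        have f3 : Commute n z' := e3
        have f4 : Commute n' z := e4
        have f5 : Commute n' z' := e5
        have f6 : Commute n' ⁅z, z'⁆ := by
          rw [commutatorElement_def]
          exact ((f4.mul_right f5).mul_right f4.inv_right).mul_right f5.inv_right
        have f7 : ⁅n * z, z'⁆ = ⁅z, z'⁆ := by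
          have f8 : Commute n ⁅z, z'⁆ := by
            rw [commutatorElement_def]
            exact ((f2.mul_right f3).mul_right f2.inv_right).mul_right f3.inv_right
          calc ⁅n * z, z'⁆ = n * ⁅z, z'⁆ * (z' * n⁻¹ * z'⁻¹) := by
                rw [commutatorElement_def, commutatorElement_def]; group
            _ = n * ⁅z, z'⁆ * n⁻¹ := by
                rw [← (f3.inv_left).eq, mul_inv_cancel_right]
            _ = ⁅z, z'⁆ := by rw [f8.eq, mul_inv_cancel_right]
        calc ⁅n * z, n' * z'⁆ = (n * z) * n' * (z' * (n * z)⁻¹ * z'⁻¹) * n'⁻¹ := by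
              rw [commutatorElement_def]; group
          _ = n' * (n * z) * (z' * (n * z)⁻¹ * z'⁻¹) * n'⁻¹ := by rw [f1.eq]
          _ = n' * ⁅n * z, z'⁆ * n'⁻¹ := by rw [commutatorElement_def]; group
          _ = ⁅z, z'⁆ := by rw [f7, f6.eq, mul_inv_cancel_right]
      rw [e6]
      rw [commutatorElement_def]
      exact mul_mem (mul_mem (mul_mem hz hz') (inv_mem hz)) (inv_mem hz')
    rw [H57.Std.isPerfect_of_quasisimple hA.1] at h1
    exact h1.trans (centralizer_le (SetLike.coe_subset_coe.mpr (hN ▸ le_sup_left)))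

end red

/-- **Standard subgroups, trichotomy** -/
theorem trichotomy {A : Subgroup G} (hA : IsStandardSubgroup A) (hO : oddCore G = ⊥)
    (hev : 2 ∣ Nat.card A) {t : G} (ht : orderOf t = 2) (htA : t ∈ centralizer (A : Set G)) :
    A.Normal ∨ (∃ X : Subgroup G, IsSimpleGroup ↥X ∧ ¬ IsMulCommutative ↥X ∧
      Nonempty (↥X ≃* ↥A) ∧
      (∀ a ∈ X, ∀ b ∈ X.map (MulAut.conj t).toMonoidHom, a * b = b * a) ∧
      X ⊓ X.map (MulAut.conj t).toMonoidHom = ⊥ ∧
      X ⊔ X.map (MulAut.conj t).toMonoidHom = Cfsg.layer G ∧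
      Subgroup.centralizer (A : Set G) = Subgroup.zpowers t) ∨
    (A ≤ Cfsg.layer G ∧ IsSimpleGroup ↥(Cfsg.layer G) ∧ ¬ IsMulCommutative ↥(Cfsg.layer G)) := by
  by_cases hO2 : pCore 2 G = ⊥
  · obtain ⟨L, hL, hAN⟩ := reduction hA hO hO2 hev ht htA
    by_cases h : cj t L = L
    · rw [h, sup_idem] at hAN
      rcases case_one hA hO hO2 hL hAN with h1 | h1
      · exact Or.inl h1
      · exact Or.inr (Or.inr h1)
    · exact Or.inr (Or.inl (case_two hA hO hO2 ht htA hL h hAN))
  · exact Or.inl (normal_of_core hA hO hev ht htA hO2)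

end H28.StdTri
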