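import Mathlib
import Cfsg.Prelude.Def_CaseTheorems
import Cfsg.Agent.Lib.H26.GenFitting
import Cfsg.Agent.Lib.H1.Cores

/-!
The centralizer of a transvection in `SL(n, 2)` has characteristic 2.
-/

set_option autoImplicit false

open Matrix

namespace H28.TransvCent

variable {F : Type*} [Field F] {n : ℕ} {i j : Fin n}

/-- entries of matrices commuting with `E_ij` -/
theorem entries {c : Matrix (Fin n) (Fin n) F}
    (h : c * transvection i j 1 = transvection i j 1 * c) :
    (∀ a, a ≠ i → c a i = 0) ∧ (∀ b, b ≠ j → c j b = 0) ∧ c i i = c j j := by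
  have h1 : c * single i j (1 : F) = single i j (1 : F) * c := by
    unfold transvection at h
    rw [mul_add, add_mul, mul_one, one_mul] at h
    exact add_left_cancel h
  refine ⟨fun a ha => ?_, fun b hb => ?_, ?_⟩
  · have h2 := congrFun (congrFun h1 a) j
    rw [mul_single_apply_same, single_mul_apply_of_ne _ _ _ _ _ ha, mul_one] at h2
    exact h2
  · have h2 := congrFun (congrFun h1 i) b
    rw [single_mul_apply_same, mul_single_apply_of_ne _ _ _ _ _ hb, one_mul] at h2
    exact h2.symm
  · have h2 := congrFun (congrFun h1 i) j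
    rw [single_mul_apply_same, mul_single_apply_same, one_mul, mul_one] at h2
    exact h2

section

variable {t : SpecialLinearGroup (Fin n) F}
  (ht : (t : Matrix (Fin n) (Fin n) F) = transvection i j 1)
include ht

theorem comm_of_mem {c : SpecialLinearGroup (Fin n) F}
    (hc : c ∈ Subgroup.centralizer ({t} : Set (SpecialLinearGroup (Fin n) F))) :
    c.1 * transvection i j 1 = transvection i j 1 * c.1 := by
  rw [Subgroup.mem_centralizer_singleton_iff] at hc
  have h1 := congrArg (fun z : SpecialLinearGroup (Fin n) F => z.1) hc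
  rw [← ht]
  exact h1

theorem mem_of_comm {c : SpecialLinearGroup (Fin n) F}
    (hc : c.1 * transvection i j 1 = transvection i j 1 * c.1) :
    c ∈ Subgroup.centralizer ({t} : Set (SpecialLinearGroup (Fin n) F)) := by
  rw [Subgroup.mem_centralizer_singleton_iff]
  apply Subtype.ext
  rw [← ht] at hc
  exact hc

end

/-- the indices different from `i`, `j` -/
abbrev Idx (i j : Fin n) := {k : Fin n // k ≠ i ∧ k ≠ j}

/-- the action on `H / ⟨e_i⟩` -/
noncomputable def rho {t : SpecialLinearGroup (Fin n) F}
    (ht : (t : Matrix (Fin n) (Fin n) F) = transvection i j 1) :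
    ↥(Subgroup.centralizer ({t} : Set (SpecialLinearGroup (Fin n) F))) →*
      (Matrix (Idx i j) (Idx i j) F)ˣ :=
  MonoidHom.toHomUnits
    { toFun := fun c => (c.1.1).submatrix (fun k => k.1) (fun k => k.1)
      map_one' := Matrix.submatrix_one _ Subtype.val_injective
      map_mul' := by
        intro c d
        ext a b
        have h1 := (entries (comm_of_mem ht c.2)).1 a.1 a.2.1
        have h2 := (entries (comm_of_mem ht d.2)).2.1 b.1 b.2.2
        change (c.1.1 * d.1.1) a.1 b.1 = _
        rw [Matrix.mul_apply, Matrix.mul_apply,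
          ← Fintype.sum_subtype_add_sum_subtype (fun k : Fin n => k ≠ i ∧ k ≠ j)]
        have h3 : ∑ k : {k : Fin n // ¬ (k ≠ i ∧ k ≠ j)}, c.1.1 a.1 k.1 * d.1.1 k.1 b.1 = 0 := by
          apply Finset.sum_eq_zero
          rintro ⟨k, hk⟩ _
          change c.1.1 a.1 k * d.1.1 k b.1 = 0
          by_cases hki : k = i
          · rw [hki, h1, zero_mul]
          · have hkj : k = j := by
              by_contra hkj
              exact hk ⟨hki, hkj⟩
            rw [hkj, h2, mul_zero]
        rw [h3, add_zero]
        rfl }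

theorem mem_ker_rho {t : SpecialLinearGroup (Fin n) F}
    (ht : (t : Matrix (Fin n) (Fin n) F) = transvection i j 1)
    {c : ↥(Subgroup.centralizer ({t} : Set (SpecialLinearGroup (Fin n) F)))} :
    c ∈ (rho ht).ker ↔ ∀ a b, a ≠ i → a ≠ j → b ≠ i → b ≠ j →
      c.1.1 a b = (1 : Matrix (Fin n) (Fin n) F) a b := by
  rw [MonoidHom.mem_ker]
  constructor
  · intro h a b ha ha' hb hb'
    have h1 := congrArg Units.val h
    have h2 := congrFun (congrFun h1 ⟨a, ha, ha'⟩) ⟨b, hb, hb'⟩
    have h3 : c.1.1 a b = (1 : Matrix (Idx i j) (Idx i j) F) ⟨a, ha, ha'⟩ ⟨b, hb, hb'⟩ := h2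
    rw [h3, one_apply, one_apply]
    simp
  · intro h
    apply Units.ext
    ext a b
    change c.1.1 a.1 b.1 = (1 : Matrix (Idx i j) (Idx i j) F) a b
    rw [h a.1 b.1 a.2.1 a.2.2 b.2.1 b.2.2, one_apply, one_apply]
    simp [Subtype.ext_iff]

section two

variable [Fintype F] (hF : Fintype.card F = 2)
include hF

theorem eq_one_of_ne_zero {x : F} (hx : x ≠ 0) : x = 1 := by
  have h1 := FiniteField.pow_card_sub_one_eq_one x hx
  rw [hF] at h1
  simpa using h1

theorem two_eq_zero : (2 : F) = 0 := by
  by_contra h
  have h1 := eq_one_of_ne_zero hF h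
  have h2 : (1 : F) = 0 := by
    have : (2 : F) = 1 + 1 := by norm_num
    rw [this] at h1
    exact add_eq_left.mp h1
  exact one_ne_zero h2

variable {t : SpecialLinearGroup (Fin n) F}
    (ht : (t : Matrix (Fin n) (Fin n) F) = transvection i j 1)
include ht

theorem diag_one {c : SpecialLinearGroup (Fin n) F}
    (hc : c ∈ Subgroup.centralizer ({t} : Set (SpecialLinearGroup (Fin n) F))) :
    c.1 i i = 1 := by
  apply eq_one_of_ne_zero hF
  intro h
  have h1 := (entries (comm_of_mem ht hc)).1
  have h2 : c.1.det = 0 := by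
    apply det_eq_zero_of_column_eq_zero i
    intro a
    by_cases ha : a = i
    · rw [ha, h]
    · exact h1 a ha
  rw [c.2] at h2
  exact one_ne_zero h2

theorem isPGroup_ker : IsPGroup 2 (rho ht).ker := by
  rintro ⟨c, hc⟩
  refine ⟨2, ?_⟩
  apply Subtype.ext
  apply Subtype.ext
  apply Subtype.ext
  have hk := (mem_ker_rho ht).mp hc
  obtain ⟨h1, h2, h3⟩ := entries (comm_of_mem ht c.2)
  have h4 := diag_one hF ht c.2
  set N : Matrix (Fin n) (Fin n) F := c.1.1 - 1 with hN
  have hNi : ∀ a, N a i = 0 := by
    intro a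
    rw [hN, Matrix.sub_apply]
    by_cases ha : a = i
    · rw [ha, h4, one_apply_eq, sub_self]
    · rw [h1 a ha, one_apply_ne ha, sub_self]
  have hNj : ∀ b, N j b = 0 := by
    intro b
    rw [hN, Matrix.sub_apply]
    by_cases hb : b = j
    · rw [hb, ← h3, h4, one_apply_eq, sub_self]
    · rw [h2 b hb, one_apply_ne (Ne.symm hb), sub_self]
  have hN0 : ∀ a b, a ≠ i → b ≠ j → N a b = 0 := by
    intro a b ha hb
    by_cases ha' : a = j
    · rw [ha']; exact hNj b
    · by_cases hb' : b = i
      · rw [hb']; exact hNi a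
      · rw [hN, Matrix.sub_apply, hk a b ha ha' hb' hb, sub_self]
  have hN3 : N * N * N = 0 := by
    ext a b
    rw [Matrix.mul_apply, Matrix.zero_apply]
    apply Finset.sum_eq_zero
    intro k _
    by_cases hkj : k = j
    · rw [hkj, hNj, mul_zero]
    · by_cases hki : k = i
      · have : (N * N) a i = 0 := by
          rw [Matrix.mul_apply]
          apply Finset.sum_eq_zero
          intro l _
          rw [hNi, mul_zero]
        rw [hki, this, zero_mul]
      · -- `k ≠ i, j`
        have : (N * N) a k = 0 := by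
          rw [Matrix.mul_apply]
          apply Finset.sum_eq_zero
          intro l _
          by_cases hli : l = i
          · rw [hli, hNi, zero_mul]
          · rw [hN0 l k hli hkj, mul_zero]
        rw [this, zero_mul]
  have hc1 : c.1.1 = 1 + N := by rw [hN]; abel
  have h2' : (2 : F) = 0 := two_eq_zero hF
  have hpow : (c.1.1 : Matrix (Fin n) (Fin n) F) ^ 4 = 1 := by
    have h5 : N + N = 0 := by
      ext a b
      rw [Matrix.add_apply, ← two_mul, h2', zero_mul, Matrix.zero_apply]
    have h6 : (1 + N) * (1 + N) = 1 + N * N := by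
      rw [add_mul, mul_add, mul_add, one_mul, mul_one, one_mul]
      calc 1 + N + (N + N * N) = 1 + (N + N) + N * N := by abel
        _ = 1 + N * N := by rw [h5, add_zero]
    have h7 : N * N + N * N = 0 := by
      rw [← mul_add, h5, mul_zero]
    have h8 : (1 + N * N) * (1 + N * N) = 1 := by
      rw [add_mul, mul_add, mul_add, one_mul, mul_one, one_mul]
      calc 1 + N * N + (N * N + N * N * (N * N)) = 1 + (N * N + N * N) + (N * N * N) * N := by
            rw [mul_assoc (N * N) N N]; abel
        _ = 1 := by rw [h7, hN3, zero_mul, add_zero, add_zero]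
    rw [hc1]
    calc (1 + N) ^ 4 = ((1 + N) * (1 + N)) * ((1 + N) * (1 + N)) := by
          simp only [pow_succ, pow_zero, one_mul, mul_assoc]
      _ = 1 := by rw [h6, h8]
  exact hpow

theorem main (hij : i ≠ j) : Cfsg.generalizedFittingSubgroup
      ↥(Subgroup.centralizer ({t} : Set (SpecialLinearGroup (Fin n) F))) =
    Cfsg.pCore 2 ↥(Subgroup.centralizer ({t} : Set (SpecialLinearGroup (Fin n) F))) := by
  classical
  have h2p : Fact (Nat.Prime 2) := ⟨Nat.prime_two⟩
  rw [H26.GenFitting.gFitting_eq_pCore_iff]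
  have hle : (rho ht).ker ≤ Cfsg.pCore 2
      ↥(Subgroup.centralizer ({t} : Set (SpecialLinearGroup (Fin n) F))) :=
    H1.Cores.le_pCore inferInstance (isPGroup_ker hF ht)
  intro c hc
  apply hle
  rw [mem_ker_rho]
  intro k b hki hkj hbi hbj
  -- the transvection `1 + E_ik`
  have hik : i ≠ k := Ne.symm hki
  let u : SpecialLinearGroup (Fin n) F := ⟨transvection i k 1, det_transvection_of_ne i k hik 1⟩
  have huC : u ∈ Subgroup.centralizer ({t} : Set (SpecialLinearGroup (Fin n) F)) := by
    apply mem_of_comm ht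
    change transvection i k 1 * transvection i j 1 = transvection i j 1 * transvection i k 1
    unfold transvection
    simp only [mul_add, add_mul, mul_one, one_mul]
    rw [single_mul_single_of_ne _ _ _ _ hki.symm.symm, single_mul_single_of_ne _ _ _ _ hij.symm]
    abel
  have huK : (⟨u, huC⟩ : ↥(Subgroup.centralizer ({t} : Set (SpecialLinearGroup (Fin n) F)))) ∈
      (rho ht).ker := by
    rw [mem_ker_rho]
    intro a b ha _ _ _
    change transvection i k 1 a b = _
    unfold transvection
    rw [Matrix.add_apply, single_apply_of_ne, add_zero]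
    rintro ⟨h, -⟩
    exact ha h.symm
  have h1 := Subgroup.mem_centralizer_iff.mp hc _ (hle huK)
  have h2 : c.1.1 * transvection i k 1 = transvection i k 1 * c.1.1 :=
    (congrArg (fun z : ↥(Subgroup.centralizer ({t} : Set (SpecialLinearGroup (Fin n) F))) => z.1.1)
      h1).symm
  obtain ⟨-, h4, h5⟩ := entries h2
  by_cases hbk : b = k
  · rw [hbk, ← h5, diag_one hF ht c.2, one_apply_eq]
  · rw [h4 b hbk, one_apply_ne (Ne.symm hbk)]

end two

end H28.TransvCent
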